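import Groth.Agent.H1Lim.SysOf

/-!
# The system of inverse images of one sheaf
-/

set_option autoImplicit false
set_option backward.isDefEq.respectTransparency false
set_option backward.isDefEq.respectTransparency.types false

universe u

open CategoryTheory CategoryTheory.Limits AlgebraicGeometry Opposite

namespace Groth.Agent.H1Lim

open scoped Groth.Agent.H18Et Groth.Agent.H18Et.CohColim

attribute [local instance] Groth.Agent.H18Et.pull_preservesFiniteLimits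

variable {I : Type u} [SmallCategory I] {D : I ⥤ Scheme.{u}} {S : Scheme.{u}}
  (q : ∀ i, D.obj i ⟶ S) (hq : ∀ (i k : I) (a : k ⟶ i), D.map a ≫ q i = q k) (G : EtCoh.Ab S)

/-- The inverse images. -/
noncomputable def cF (i : I) : EtCoh.Ab (D.obj i) := (EtCoh.pull (q i)).obj G

/-- Their transition maps. -/
noncomputable def cψ (i k : I) (a : k ⟶ i) : cF q G i ⟶ (EtCoh.push (D.map a)).obj (cF q G k) :=
  psi (D.map a) (q i) (q k) (hq i k a) G

theorem cψ_def (i k : I) (a : k ⟶ i) :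
    cψ q hq G i k a = psi (D.map a) (q i) (q k) (hq i k a) G := rfl

include hq in
theorem cψ_id (i : I) (j : ∀ V : (D.obj i).Etale, V ⟶ (EtCoh.bc (D.map (𝟙 i))).obj V)
    (hj : ∀ V, (j V).left ≫ pullback.fst V.hom (D.map (𝟙 i)) = 𝟙 _) (V : (D.obj i).Etale)
    (s : (cF q G i).obj.obj (op V)) :
    (cF q G i).obj.map (j V).op ((cψ q hq G i i (𝟙 i)).hom.app (op V) s) = s :=
  (congrArg (fun k : (EtCoh.pull (q i)).obj G ⟶ (EtCoh.push (D.map (𝟙 i))).obj ((EtCoh.pull (q i)).obj G) =>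
    ((EtCoh.pull (q i)).obj G).obj.map (j V).op (k.hom.app (op V) s)) (cψ_def q hq G i i (𝟙 i))).trans
  (psi_id (D.map (𝟙 i)) (D.map_id i) (q i) (hq i i (𝟙 i)) G j hj V s)

omit q hq G in
theorem transfer {X Y Z : Scheme.{u}} (f : X ⟶ Y) (f' : Y ⟶ Z) (f'' : X ⟶ Z) {A : EtCoh.Ab Z}
    {B : EtCoh.Ab Y} {T : EtCoh.Ab X} {α α' : A ⟶ (EtCoh.push f').obj B}
    {β β' : B ⟶ (EtCoh.push f).obj T} {φ φ' : A ⟶ (EtCoh.push f'').obj T}
    (hα : α = α') (hβ : β = β') (hφ : φ = φ') (V : Z.Etale)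
    (m : (EtCoh.bc f).obj ((EtCoh.bc f').obj V) ⟶ (EtCoh.bc f'').obj V) (s : A.obj.obj (op V))
    (h : β'.hom.app (op ((EtCoh.bc f').obj V)) (α'.hom.app (op V) s) = T.obj.map m.op (φ'.hom.app (op V) s)) :
    β.hom.app (op ((EtCoh.bc f').obj V)) (α.hom.app (op V) s) = T.obj.map m.op (φ.hom.app (op V) s) := by
  subst hα; subst hβ; subst hφ; exact h

theorem cψ_comp (i k l : I) (a : k ⟶ i) (b : l ⟶ k)
    (μ : ∀ V : (D.obj i).Etale,
      (EtCoh.bc (D.map b)).obj ((EtCoh.bc (D.map a)).obj V) ⟶ (EtCoh.bc (D.map (b ≫ a))).obj V)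
    (hμ : ∀ V, (μ V).left ≫ pullback.fst V.hom (D.map (b ≫ a)) =
      pullback.fst ((EtCoh.bc (D.map a)).obj V).hom (D.map b) ≫ pullback.fst V.hom (D.map a))
    (V : (D.obj i).Etale) (s : (cF q G i).obj.obj (op V)) :
    (cψ q hq G k l b).hom.app (op ((EtCoh.bc (D.map a)).obj V)) ((cψ q hq G i k a).hom.app (op V) s) =
      (cF q G l).obj.map (μ V).op ((cψ q hq G i l (b ≫ a)).hom.app (op V) s) := by
  exact transfer (D.map b) (D.map a) (D.map (b ≫ a)) (cψ_def q hq G i k a) (cψ_def q hq G k l b)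
    (cψ_def q hq G i l (b ≫ a)) V (μ V) s
    (psi_comp (D.map b) (D.map a) (D.map (b ≫ a)) (q i) (q k) (q l) (hq i k a) (hq k l b) (hq i l (b ≫ a)) G μ hμ V s)

section

variable {X₀ : Scheme.{u}} (π : ∀ k, X₀ ⟶ D.obj k) (q' : X₀ ⟶ S) (hq' : ∀ i, π i ≫ q i = q')

/-- The maps to the inverse image on the vertex. -/
noncomputable def cχ (k : I) : cF q G k ⟶ (EtCoh.push (π k)).obj ((EtCoh.pull q').obj G) :=
  psi (π k) (q k) q' (hq' k) G

theorem cχ_def (k : I) : cχ q G π q' hq' k = psi (π k) (q k) q' (hq' k) G := rfl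

theorem cχ_cψ {i k : I} (a : k ⟶ i)
    (μ : ∀ V : (D.obj i).Etale,
      (EtCoh.bc (π k)).obj ((EtCoh.bc (D.map a)).obj V) ⟶ (EtCoh.bc (π i)).obj V)
    (hμ : ∀ V, (μ V).left ≫ pullback.fst V.hom (π i) =
      pullback.fst ((EtCoh.bc (D.map a)).obj V).hom (π k) ≫ pullback.fst V.hom (D.map a))
    (V : (D.obj i).Etale) (s : (cF q G i).obj.obj (op V)) :
    (cχ q G π q' hq' k).hom.app (op ((EtCoh.bc (D.map a)).obj V)) ((cψ q hq G i k a).hom.app (op V) s) =
      ((EtCoh.pull q').obj G).obj.map (μ V).op ((cχ q G π q' hq' i).hom.app (op V) s) := by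
  exact transfer (π k) (D.map a) (π i) (cψ_def q hq G i k a) (cχ_def q G π q' hq' k)
    (cχ_def q G π q' hq' i) V (μ V) s
    (psi_comp (π k) (D.map a) (π i) (q i) (q k) q' (hq i k a) (hq' k) (hq' i) G μ hμ V s)

end

variable (c : Cone D) (q' : c.pt ⟶ S) (hq' : ∀ i, c.π.app i ≫ q i = q')

theorem homEquiv_symm_psi {X Y Z : Scheme.{u}} (f : X ⟶ Y) (g : Y ⟶ Z) (h : X ⟶ Z) (w : f ≫ g = h)
    (G : EtCoh.Ab Z) :
    ((EtCoh.pullPushAdj f).homEquiv _ _).symm (psi f g h w G) = ((viaIso f g h w).app G).hom :=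
  Equiv.symm_apply_apply _ _

theorem H_map_inv_hom {X : Scheme.{u}} {F F' : EtCoh.Ab X} (e : F ≅ F') (n : ℕ) (x : Sheaf.H F' n) :
    Sheaf.H.map e.hom n (Sheaf.H.map e.inv n x) = x := by
  rw [← H_map_comp₀, e.inv_hom_id, Sheaf.H.map_apply, Abelian.Ext.comp_mk₀_id]

theorem H_map_injective {X : Scheme.{u}} {F F' : EtCoh.Ab X} (e : F ≅ F') (n : ℕ) :
    Function.Injective (Sheaf.H.map e.hom n) :=
  Function.LeftInverse.injective (g := Sheaf.H.map e.inv n) (fun x => H_map_inv_hom e.symm n x)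

/-- Pullback along `f` then coefficient maps, in two factorisations. -/
theorem H_map_Hpull {X Y : Scheme.{u}} (f : X ⟶ Y) {F F' : EtCoh.Ab Y} (r : F ⟶ F') {T T' : EtCoh.Ab X}
    (t : (EtCoh.pull f).obj F ⟶ T) (e : T ⟶ T') (t' : (EtCoh.pull f).obj F' ⟶ T')
    (h : t ≫ e = (EtCoh.pull f).map r ≫ t') (n : ℕ) (y : Sheaf.H F n) :
    Sheaf.H.map e n (Sheaf.H.map t n (hpull f F n y)) =
      Sheaf.H.map t' n (hpull f F' n (Sheaf.H.map r n y)) := by
  rw [Hpull_map, ← H_map_comp₀, ← H_map_comp₀, h]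

theorem HT_def (P : Sys D) {i k : I} (a : k ⟶ i) (n : ℕ) (y : Sheaf.H ((res D i).obj P) n) :
    HT P a n y = Sheaf.H.map ((trans a).app P) n (hpull (D.map a) ((res D i).obj P) n y) := rfl

theorem HLim_def [IsCofiltered I] (P : Sys D) (k : I) (n : ℕ) (y : Sheaf.H ((res D k).obj P) n) :
    HLim c P k n y = Sheaf.H.map ((coproj c k).app P) n (hpull (c.π.app k) ((res D k).obj P) n y) := rfl

theorem HpullVia_def {X Y Z : Scheme.{u}} (f : X ⟶ Y) (g : Y ⟶ Z) (h : X ⟶ Z) (w : f ≫ g = h)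
    (G : EtCoh.Ab Z) (n : ℕ) (y : Sheaf.H ((EtCoh.pull g).obj G) n) :
    EtCore.HpullVia f g h w G n y =
      Sheaf.H.map ((viaIso f g h w).app G).hom n (hpull f ((EtCoh.pull g).obj G) n y) := rfl

variable [IsCofiltered I] (hc : IsLimit c) [∀ ⦃a b : I⦄ (f : a ⟶ b), IsAffineHom (D.map f)]
  [∀ a, CompactSpace (D.obj a)] [∀ a, QuasiSeparatedSpace (D.obj a)]

omit q hq G q' hq' in
include hc in
/-- Cohomology of a limit for a system given by families. -/
theorem families_surj_inj (F : ∀ i, EtCoh.Ab (D.obj i))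
    (ψ : ∀ (i k : I) (a : k ⟶ i), F i ⟶ (EtCoh.push (D.map a)).obj (F k))
    (hid : ∀ (i : I) (j : ∀ V : (D.obj i).Etale, V ⟶ (EtCoh.bc (D.map (𝟙 i))).obj V),
      (∀ V, (j V).left ≫ pullback.fst V.hom (D.map (𝟙 i)) = 𝟙 _) →
        ∀ (V : (D.obj i).Etale) (s : (F i).obj.obj (op V)),
          (F i).obj.map (j V).op ((ψ i i (𝟙 i)).hom.app (op V) s) = s)
    (hcomp : ∀ (i k l : I) (a : k ⟶ i) (b : l ⟶ k)
      (μ : ∀ V : (D.obj i).Etale,
        (EtCoh.bc (D.map b)).obj ((EtCoh.bc (D.map a)).obj V) ⟶ (EtCoh.bc (D.map (b ≫ a))).obj V),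
      (∀ V, (μ V).left ≫ pullback.fst V.hom (D.map (b ≫ a)) =
        pullback.fst ((EtCoh.bc (D.map a)).obj V).hom (D.map b) ≫ pullback.fst V.hom (D.map a)) →
        ∀ (V : (D.obj i).Etale) (s : (F i).obj.obj (op V)),
          (ψ k l b).hom.app (op ((EtCoh.bc (D.map a)).obj V)) ((ψ i k a).hom.app (op V) s) =
            (F l).obj.map (μ V).op ((ψ i l (b ≫ a)).hom.app (op V) s))
    (T : EtCoh.Ab c.pt) (χ : ∀ k, F k ⟶ (EtCoh.push (c.π.app k)).obj T)
    (hχ : ∀ (i k : I) (a : k ⟶ i)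
      (μ : ∀ V : (D.obj i).Etale,
        (EtCoh.bc (c.π.app k)).obj ((EtCoh.bc (D.map a)).obj V) ⟶ (EtCoh.bc (c.π.app i)).obj V),
      (∀ V, (μ V).left ≫ pullback.fst V.hom (c.π.app i) =
        pullback.fst ((EtCoh.bc (D.map a)).obj V).hom (c.π.app k) ≫ pullback.fst V.hom (D.map a)) →
      ∀ (V : (D.obj i).Etale) (s : (F i).obj.obj (op V)),
        (χ k).hom.app (op ((EtCoh.bc (D.map a)).obj V)) ((ψ i k a).hom.app (op V) s) =
          T.obj.map (μ V).op ((χ i).hom.app (op V) s))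
    [∀ k, IsIso (((EtCoh.pullPushAdj (c.π.app k)).homEquiv _ _).symm (χ k))] (n : ℕ) :
    (∀ x : Sheaf.H T n, ∃ (k : I) (y : Sheaf.H (F k) n),
      Sheaf.H.map (((EtCoh.pullPushAdj (c.π.app k)).homEquiv _ _).symm (χ k)) n
        (hpull (c.π.app k) (F k) n y) = x) ∧
    (∀ (i : I) (y : Sheaf.H (F i) n),
      Sheaf.H.map (((EtCoh.pullPushAdj (c.π.app i)).homEquiv _ _).symm (χ i)) n
        (hpull (c.π.app i) (F i) n y) = 0 →
      ∃ (k : I) (a : k ⟶ i), Sheaf.H.map (((EtCoh.pullPushAdj (D.map a)).homEquiv _ _).symm (ψ i k a)) n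
        (hpull (D.map a) (F i) n y) = 0) := by
  let Q := SysData.ofFamilies F ψ hid hcomp
  haveI : ∀ k, IsIso (((EtCoh.pullPushAdj (c.π.app k)).homEquiv (Q.F k) T).symm (χ k)) := fun k =>
    inferInstanceAs (IsIso (((EtCoh.pullPushAdj (c.π.app k)).homEquiv (F k) T).symm (χ k)))
  obtain ⟨e, he⟩ := Q.exists_limIso c χ (fun {i k} a U s =>
    hχ i k a (fun V => (toCone c).map (proj a V)) (fun V => toCone_map_fst c (proj a V)) U s)
  have hHL : ∀ (k : I) (y : Sheaf.H ((res D k).obj Q.toSys) n),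
      Sheaf.H.map e.hom n (HLim c Q.toSys k n y) =
        Sheaf.H.map (((EtCoh.pullPushAdj (c.π.app k)).homEquiv (Q.F k) T).symm (χ k)) n
          (hpull (c.π.app k) (Q.F k) n (Sheaf.H.map (Q.resIso k).hom n y)) := fun k y =>
    (congrArg (Sheaf.H.map e.hom n) (HLim_def c Q.toSys k n y)).trans
      (H_map_Hpull (c.π.app k) (Q.resIso k).hom _ e.hom _ (he k) n y)
  obtain ⟨hs, hi⟩ := surj_inj c hc n Q.toSys
  refine ⟨fun x => ?_, fun i y hy => ?_⟩
  · obtain ⟨k, y, hy⟩ := hs (Sheaf.H.map e.inv n x)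
    exact ⟨k, Sheaf.H.map (Q.resIso k).hom n y,
      (hHL k y).symm.trans ((congrArg (Sheaf.H.map e.hom n) hy).trans (H_map_inv_hom e n x))⟩
  · obtain ⟨k, a, ha⟩ := hi i (Sheaf.H.map (Q.resIso i).inv n y) (by
      apply H_map_injective e n
      refine (hHL i _).trans ?_
      rw [map_zero]
      rw [H_map_inv_hom]
      exact hy)
    refine ⟨k, a, ?_⟩
    have h := H_map_Hpull (D.map a) (Q.resIso i).hom _ _ _ (Q.trans_toSys a) n
      (Sheaf.H.map (Q.resIso i).inv n y)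
    have h2 := (congrArg (Sheaf.H.map (Q.resIso k).hom n) ((HT_def Q.toSys a n _).symm.trans ha)).symm.trans h
    rw [map_zero, H_map_inv_hom] at h2
    exact h2.symm

include hq hc in
/-- Cohomology of the inverse image of one sheaf on a limit. -/
theorem constSys_surj_inj (n : ℕ) :
    (∀ x : Sheaf.H ((EtCoh.pull q').obj G) n, ∃ (k : I)
      (y : Sheaf.H ((EtCoh.pull (q k)).obj G) n),
        EtCore.HpullVia (c.π.app k) (q k) q' (hq' k) G n y = x) ∧
    (∀ (i : I) (y : Sheaf.H ((EtCoh.pull (q i)).obj G) n),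
      EtCore.HpullVia (c.π.app i) (q i) q' (hq' i) G n y = 0 →
        ∃ (k : I) (a : k ⟶ i), hpull (D.map a) ((EtCoh.pull (q i)).obj G) n y = 0) := by
  have eχ : ∀ k, ((EtCoh.pullPushAdj (c.π.app k)).homEquiv _ _).symm (cχ q G c.π.app q' hq' k) =
      ((viaIso (c.π.app k) (q k) q' (hq' k)).app G).hom := fun k => by
    rw [cχ_def]; exact homEquiv_symm_psi _ _ _ _ _
  have eψ : ∀ (i k : I) (a : k ⟶ i), ((EtCoh.pullPushAdj (D.map a)).homEquiv _ _).symm (cψ q hq G i k a) =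
      ((viaIso (D.map a) (q i) (q k) (hq i k a)).app G).hom := fun i k a => by
    rw [cψ_def]; exact homEquiv_symm_psi _ _ _ _ _
  haveI : ∀ k, IsIso (((EtCoh.pullPushAdj (c.π.app k)).homEquiv _ _).symm (cχ q G c.π.app q' hq' k)) := fun k => by
    rw [eχ]; exact Iso.isIso_hom _
  obtain ⟨hs, hi⟩ := families_surj_inj c hc (cF q G) (cψ q hq G) (cψ_id q hq G) (cψ_comp q hq G)
    ((EtCoh.pull q').obj G) (cχ q G c.π.app q' hq') (fun i k a μ hμ V s => cχ_cψ q hq G c.π.app q' hq' a μ hμ V s) n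
  refine ⟨fun x => ?_, fun i y hy => ?_⟩
  · obtain ⟨k, y, hy⟩ := hs x
    exact ⟨k, y, (HpullVia_def _ _ _ _ _ _ _).trans
      ((congrArg (fun m => Sheaf.H.map m n (hpull (c.π.app k) (cF q G k) n y)) (eχ k)).symm.trans hy)⟩
  · obtain ⟨k, a, ha⟩ := hi i y
      ((congrArg (fun m => Sheaf.H.map m n (hpull (c.π.app i) (cF q G i) n y)) (eχ i)).trans
        ((HpullVia_def _ _ _ _ _ _ _).symm.trans hy))
    refine ⟨k, a, H_map_injective ((viaIso (D.map a) (q i) (q k) (hq i k a)).app G) n ?_⟩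
    exact ((congrArg (fun m => Sheaf.H.map m n (hpull (D.map a) (cF q G i) n y)) (eψ i k a)).symm.trans ha).trans
      (map_zero _).symm

end Groth.Agent.H1Lim
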