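import Groth.Agent.H1Lim.Cohomology
import Groth.Agent.H18Et.Coh.TorsionRpush

/-!
# A sheaf on the limit is the limit of its direct images on the members
-/

set_option autoImplicit false
set_option backward.isDefEq.respectTransparency false
set_option backward.isDefEq.respectTransparency.types false

universe u

open CategoryTheory CategoryTheory.Limits AlgebraicGeometry Opposite

namespace Groth.Agent.H1Lim

open scoped Groth.Agent.H18Et Groth.Agent.H18Et.CohColim
open Groth.Agent.H18Et Groth.Agent.H18Et.AffineCriterion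

section Torsion

variable {X Y : Scheme.{u}}

/-- Direct images of torsion sheaves along qcqs morphisms are torsion. -/
theorem isTorsion_push (f : X ⟶ Y) [QuasiCompact f] [QuasiSeparated f] (F : EtCoh.Ab X)
    (hF : EtCoh.IsTorsion F) : EtCoh.IsTorsion ((EtCoh.push f).obj F) := fun U s x => by
  obtain ⟨W, hW, hxW, -⟩ := exists_isAffineOpen_mem_and_subset (x := x) (U := ⊤) trivial
  haveI : IsAffine (AffineCriterion.openObj U W).left := hW
  haveI := (H18Et.Coh.qcqs_bc f (AffineCriterion.openObj U W)).1
  exact ⟨AffineCriterion.openObj U W, AffineCriterion.openHom U W, ⟨⟨x, hxW⟩, rfl⟩,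
    H18Et.Coh.isOfFinAddOrder_sect hF ((EtCoh.bc f).obj (AffineCriterion.openObj U W)) _⟩

end Torsion

variable {I : Type u} [SmallCategory I] {D : I ⥤ Scheme.{u}} (c : Cone D) (G : EtCoh.Ab c.pt)

/-- The restriction of the presheaf of direct images to a fibre. -/
noncomputable def pushFibIso (i : I) :
    (incl i).op ⋙ (toCone c).op ⋙ G.obj ≅ ((EtCoh.push (c.π.app i)).obj G).obj :=
  NatIso.ofComponents (fun U => Iso.refl _) fun {U V} g => by
    ext s
    exact congrArg (fun z => G.obj.map (Quiver.Hom.op z) s) (toCone_incl_map c g.unop)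

/-- The system of direct images. -/
noncomputable def pushSys : Sys D :=
  ⟨(toCone c).op ⋙ G.obj, (Presheaf.isSheaf_iff_isSheaf_forget _ _ (forget _)).2 (by
    rw [isSheaf_iff_isSheaf_of_type]
    refine isSheaf_of_fibres _ fun i => ?_
    rw [← isSheaf_iff_isSheaf_of_type]
    have h : Presheaf.IsSheaf (D.obj i).smallEtaleTopology ((incl i).op ⋙ (toCone c).op ⋙ G.obj) :=
      (Presheaf.isSheaf_of_iso_iff (pushFibIso c G i)).2 ((EtCoh.push (c.π.app i)).obj G).property
    exact (Presheaf.isSheaf_iff_isSheaf_forget _ _ (forget _)).1 h)⟩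

/-- Its members. -/
noncomputable def pushRes (i : I) : (res D i).obj (pushSys c G) ≅ (EtCoh.push (c.π.app i)).obj G :=
  (fullyFaithfulSheafToPresheaf _ _).preimageIso (pushFibIso c G i)

/-- The evaluation map of a member. -/
noncomputable def pushEval (k : I) : (term c k).obj (pushSys c G) ⟶ G :=
  ((EtCoh.pullPushAdj (c.π.app k)).homEquiv _ _).symm (pushRes c G k).hom

theorem pushEval_unitS (k : I) (W : (D.obj k).Etale) (s : EtCoh.sect ((res D k).obj (pushSys c G)) W) :
    (pushEval c G k).hom.app (op ((toCone c).obj ((incl k).obj W))) (unitS c (pushSys c G) k W s) = s := by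
  have h := ((EtCoh.pullPushAdj (c.π.app k)).homEquiv _ _).apply_symm_apply (pushRes c G k).hom
  rw [Adjunction.homEquiv_unit] at h
  exact congrArg (fun φ : (res D k).obj (pushSys c G) ⟶ (EtCoh.push (c.π.app k)).obj G => φ.hom.app (op W) s) h

theorem delta_pushEval {i k : I} (a : k ⟶ i) :
    delta c (pushSys c G) a ≫ pushEval c G k = pushEval c G i := by
  refine term_hom_ext c fun U s => ?_
  apply sect_map_injective c G (proj a U)
  show G.obj.map _ ((pushEval c G k).hom.app _ ((delta c (pushSys c G) a).hom.app _ (unitS c _ i U s))) = _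
  refine (NatTrans.naturality_apply (pushEval c G k).hom ((toCone c).map (proj a U)).op _).symm.trans ?_
  refine (congrArg _ (delta_unitS c (pushSys c G) (proj a U) s)).trans ?_
  refine (pushEval_unitS c G k _ _).trans ?_
  exact (congrArg (G.obj.map ((toCone c).map (proj a U)).op) (pushEval_unitS c G i U s)).symm

variable [IsCofiltered I]

/-- The evaluation map. -/
noncomputable def evalLim : (limSheaf c).obj (pushSys c G) ⟶ G :=
  colimit.desc ((diag c).obj (pushSys c G))
    ⟨G, { app := fun j => pushEval c G j.unop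
          naturality := fun _ _ f => (delta_pushEval c G f.unop).trans (Category.comp_id _).symm }⟩

theorem evalLim_toLim (k : I) (W : (D.obj k).Etale) (s : EtCoh.sect ((res D k).obj (pushSys c G)) W) :
    (evalLim c G).hom.app _ (toLim c (pushSys c G) k W s) = s :=
  (congrArg (fun φ : ((diag c).obj (pushSys c G)).obj (op k) ⟶ G =>
    φ.hom.app (op ((toCone c).obj ((incl k).obj W))) (unitS c (pushSys c G) k W s))
    (show colimit.ι ((diag c).obj (pushSys c G)) (op k) ≫ evalLim c G = pushEval c G k from
      colimit.ι_desc _ (op k))).trans (pushEval_unitS c G k W s)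

variable (hc : IsLimit c) [∀ ⦃a b : I⦄ (f : a ⟶ b), IsAffineHom (D.map f)]
  [∀ a, CompactSpace (D.obj a)] [∀ a, QuasiSeparatedSpace (D.obj a)]

include hc in
theorem evalLim_bijective (V : c.pt.Etale) [CompactSpace V.left] [QuasiSeparatedSpace V.left] :
    Function.Bijective ((evalLim c G).hom.app (op V)) := by
  obtain ⟨i, U, _, _, ⟨e⟩⟩ := exists_descend_obj c hc V
  have hU : Function.Bijective ((evalLim c G).hom.app (op ((toCone c).obj ((incl i).obj U)))) := by
    refine ⟨(injective_iff_map_eq_zero _).2 fun σ hσ => ?_, fun g => ⟨toLim c (pushSys c G) i U g, evalLim_toLim c G i U g⟩⟩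
    obtain ⟨j, a, t, ht⟩ := sect_surj c (pushSys c G) hc U σ
    have h0 : t = 0 := by
      refine (evalLim_toLim c G j _ t).symm.trans ?_
      refine (congrArg _ ht.symm).trans ?_
      refine (NatTrans.naturality_apply (evalLim c G).hom ((toCone c).map (proj a U)).op σ).trans ?_
      rw [hσ, map_zero]
    apply sect_map_injective c ((limSheaf c).obj (pushSys c G)) (proj a U)
    rw [map_zero]
    exact ht.trans (h0 ▸ map_zero _)
  haveI : IsIso e.hom.op := inferInstance
  have h2 := (evalLim c G).hom.naturality e.hom.op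
  have b1 := ConcreteCategory.bijective_of_isIso (((limSheaf c).obj (pushSys c G)).obj.map e.hom.op)
  have b2 := ConcreteCategory.bijective_of_isIso (G.obj.map e.hom.op)
  refine (Function.Bijective.of_comp_iff' b2 _).1 ?_
  have h3 : G.obj.map e.hom.op ∘ (evalLim c G).hom.app (op V) =
      (evalLim c G).hom.app (op ((toCone c).obj ((incl i).obj U))) ∘
        ((limSheaf c).obj (pushSys c G)).obj.map e.hom.op :=
    funext fun x => (NatTrans.naturality_apply (evalLim c G).hom e.hom.op x).symm
  rw [h3]
  exact hU.comp b1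

include hc in
theorem isIso_evalLim : IsIso (evalLim c G) := by
  let L := (limSheaf c).obj (pushSys c G)
  haveI : Mono (evalLim c G) := Sheaf.mono_of_injective _ fun U => by
    refine (injective_iff_map_eq_zero _).2 fun s hs => sect_eq_zero_of_local L s fun x => ?_
    obtain ⟨W, hW, hxW, -⟩ := exists_isAffineOpen_mem_and_subset (x := x) (U := ⊤) trivial
    haveI : IsAffine (AffineCriterion.openObj U.unop W).left := hW
    refine ⟨AffineCriterion.openObj U.unop W, AffineCriterion.openHom U.unop W, ⟨⟨x, hxW⟩, rfl⟩, ?_⟩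
    refine (evalLim_bijective c G hc (AffineCriterion.openObj U.unop W)).1 ?_
    refine ((NatTrans.naturality_apply (evalLim c G).hom (AffineCriterion.openHom U.unop W).op s).trans ?_).trans
      (map_zero _).symm
    rw [hs, map_zero]
  haveI : Sheaf.IsLocallySurjective (evalLim c G) := ⟨fun {U} t => mem_etale_iff.2 fun x => by
    obtain ⟨W, hW, hxW, -⟩ := exists_isAffineOpen_mem_and_subset (x := x) (U := ⊤) trivial
    haveI : IsAffine (AffineCriterion.openObj U W).left := hW
    obtain ⟨r, hr⟩ := (evalLim_bijective c G hc (AffineCriterion.openObj U W)).2 (G.obj.map (AffineCriterion.openHom U W).op t)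
    exact ⟨AffineCriterion.openObj U W, AffineCriterion.openHom U W, ⟨x, hxW⟩, ⟨r, hr⟩, etale_of_hom _, rfl⟩⟩
  haveI : Epi (evalLim c G) := Sheaf.epi_of_isLocallySurjective _
  exact isIso_of_mono_of_epi _

end Groth.Agent.H1Lim
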