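import Groth.Prelude.Def_EtCore

/-!
# The comparison of iterated inverse images on sections
-/

set_option autoImplicit false
set_option backward.isDefEq.respectTransparency false
set_option backward.isDefEq.respectTransparency.types false

universe u

open CategoryTheory CategoryTheory.Limits AlgebraicGeometry Opposite

namespace Groth.Agent.H1Lim

variable {X Y Z : Scheme.{u}}

/-- Inverse image of a section. -/
noncomputable abbrev secUnit (f : X ⟶ Y) (G : EtCoh.Ab Y) (U : Y.Etale) :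
    G.obj.obj (op U) ⟶ ((EtCoh.pull f).obj G).obj.obj (op ((EtCoh.bc f).obj U)) :=
  ((EtCoh.pullPushAdj f).unit.app G).hom.app (op U)

/-- Morphisms into a base change are determined by the first projection. -/
theorem bc_hom_ext (f : X ⟶ Y) {U : Y.Etale} {V : X.Etale} {x y : V ⟶ (EtCoh.bc f).obj U}
    (h : x.left ≫ pullback.fst U.hom f = y.left ≫ pullback.fst U.hom f) : x = y :=
  MorphismProperty.Over.Hom.ext (pullback.hom_ext h
    ((MorphismProperty.Over.w x).trans (MorphismProperty.Over.w y).symm))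

/-- The comparison `f⁻¹ g⁻¹ ≅ h⁻¹` for `f ≫ g = h`. -/
noncomputable abbrev viaIso (f : X ⟶ Y) (g : Y ⟶ Z) (h : X ⟶ Z) (w : f ≫ g = h) :
    EtCoh.pull g ⋙ EtCoh.pull f ≅ EtCoh.pull h :=
  (EtCore.pullComp f g).symm ≪≫ EtCore.pullCongr w

theorem viaIso_unit (f : X ⟶ Y) (g : Y ⟶ Z) (h : X ⟶ Z) (w : f ≫ g = h) (G : EtCoh.Ab Z)
    (U : Z.Etale) (l : (EtCoh.bc f).obj ((EtCoh.bc g).obj U) ⟶ (EtCoh.bc h).obj U)
    (hl : l.left ≫ pullback.fst U.hom h =
      pullback.fst ((EtCoh.bc g).obj U).hom f ≫ pullback.fst U.hom g)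
    (s : G.obj.obj (op U)) :
    ((viaIso f g h w).app G).hom.hom.app (op ((EtCoh.bc f).obj ((EtCoh.bc g).obj U)))
        (secUnit f ((EtCoh.pull g).obj G) _ (secUnit g G U s)) =
      ((EtCoh.pull h).obj G).obj.map l.op (secUnit h G U s) := by
  subst w
  let C := (EtCore.pullComp f g).app G
  let T := (EtCoh.pull f).obj ((EtCoh.pull g).obj G)
  let P : (EtCoh.bc (f ≫ g)).obj U ⟶ (EtCoh.bc f).obj ((EtCoh.bc g).obj U) :=
    (MorphismProperty.Over.pullbackComp (P := EtCoh.etaleMP) (Q := ⊤) f g).hom.app U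
  have hu : C.hom.hom.app (op ((EtCoh.bc (f ≫ g)).obj U)) (secUnit (f ≫ g) G U s) =
      T.obj.map P.op (secUnit f ((EtCoh.pull g).obj G) _ (secUnit g G U s)) := by
    have h0 := congrArg (fun k => k.hom.app (op U) s)
      (Adjunction.unit_leftAdjointUniq_hom_app (EtCoh.pullPushAdj (f ≫ g))
        (((EtCoh.pullPushAdj g).comp (EtCoh.pullPushAdj f)).ofNatIsoRight (EtCoh.pushComp g f)) G)
    have e : (((EtCoh.pullPushAdj g).comp (EtCoh.pullPushAdj f)).ofNatIsoRight (EtCoh.pushComp g f)).unit.app G =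
        (EtCoh.pullPushAdj g).unit.app G ≫ (EtCoh.push g).map ((EtCoh.pullPushAdj f).unit.app _) ≫
          (EtCoh.pushComp g f).hom.app T := by
      simp [Adjunction.ofNatIsoRight, Adjunction.comp, T]
    exact h0.trans ((congrArg (fun k => k.hom.app (op U) s) e).trans rfl)
  have hP : P ≫ l = 𝟙 _ := bc_hom_ext (f ≫ g) (by
    show (P.left ≫ l.left) ≫ pullback.fst U.hom (f ≫ g) = _
    rw [Category.assoc, hl]
    exact (MorphismProperty.Over.pullbackComp_left_fst_fst (P := EtCoh.etaleMP) (Q := ⊤) f g U).trans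
      (Category.id_comp _).symm)
  haveI : IsIso P := inferInstanceAs
    (IsIso ((MorphismProperty.Over.pullbackComp (P := EtCoh.etaleMP) (Q := ⊤) f g).hom.app U))
  show C.inv.hom.app _ _ = _
  apply (ConcreteCategory.bijective_of_isIso (((EtCoh.pull (f ≫ g)).obj G).obj.map P.op)).1
  refine (NatTrans.naturality_apply C.inv.hom P.op _).symm.trans ?_
  refine (congrArg (C.inv.hom.app (op ((EtCoh.bc (f ≫ g)).obj U))) hu.symm).trans ?_
  refine (congrArg (fun k => k.hom.app (op ((EtCoh.bc (f ≫ g)).obj U)) (secUnit (f ≫ g) G U s))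
    C.hom_inv_id).trans ?_
  refine Eq.trans ?_ (Functor.map_comp_apply _ _ _ _)
  rw [← op_comp, hP]
  exact (Functor.map_id_apply _ _ _).symm

/-- The adjoint form of `viaIso`. -/
noncomputable def psi (f : X ⟶ Y) (g : Y ⟶ Z) (h : X ⟶ Z) (w : f ≫ g = h) (G : EtCoh.Ab Z) :
    (EtCoh.pull g).obj G ⟶ (EtCoh.push f).obj ((EtCoh.pull h).obj G) :=
  (EtCoh.pullPushAdj f).homEquiv _ _ ((viaIso f g h w).app G).hom

theorem psi_def (f : X ⟶ Y) (g : Y ⟶ Z) (h : X ⟶ Z) (w : f ≫ g = h) (G : EtCoh.Ab Z) :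
    psi f g h w G = (EtCoh.pullPushAdj f).homEquiv ((EtCoh.pull g).obj G) ((EtCoh.pull h).obj G)
      ((viaIso f g h w).app G).hom := rfl

theorem homEquiv_apply (f : X ⟶ Y) {F : EtCoh.Ab Y} {T : EtCoh.Ab X}
    (φ : (EtCoh.pull f).obj F ⟶ T) (V : Y.Etale) (s : F.obj.obj (op V)) :
    ((EtCoh.pullPushAdj f).homEquiv F T φ).hom.app (op V) s =
      φ.hom.app (op ((EtCoh.bc f).obj V)) (secUnit f F V s) := by
  rw [Adjunction.homEquiv_unit]
  rfl

theorem psi_apply (f : X ⟶ Y) (g : Y ⟶ Z) (h : X ⟶ Z) (w : f ≫ g = h) (G : EtCoh.Ab Z)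
    (V : Y.Etale) (s : ((EtCoh.pull g).obj G).obj.obj (op V)) :
    (psi f g h w G).hom.app (op V) s =
      ((viaIso f g h w).app G).hom.hom.app (op ((EtCoh.bc f).obj V))
        (secUnit f ((EtCoh.pull g).obj G) V s) :=
  (congrArg (fun k : (EtCoh.pull g).obj G ⟶ (EtCoh.push f).obj ((EtCoh.pull h).obj G) => k.hom.app (op V) s)
    (psi_def f g h w G)).trans (homEquiv_apply f ((viaIso f g h w).app G).hom V s)

/-- Two morphisms out of an inverse image agree if they agree on inverse images of sections. -/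
theorem pull_hom_ext (g : Y ⟶ Z) {G : EtCoh.Ab Z} {T : EtCoh.Ab Y}
    {φ χ : (EtCoh.pull g).obj G ⟶ T}
    (h : ∀ (U : Z.Etale) (s : G.obj.obj (op U)),
      φ.hom.app (op ((EtCoh.bc g).obj U)) (secUnit g G U s) =
        χ.hom.app (op ((EtCoh.bc g).obj U)) (secUnit g G U s)) : φ = χ := by
  apply ((EtCoh.pullPushAdj g).homEquiv _ _).injective
  rw [Adjunction.homEquiv_unit, Adjunction.homEquiv_unit]
  ext U s
  exact h U.unop s

/-- An endomorphism from a map to the direct image along a morphism equal to the identity. -/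
noncomputable def twist (f : Y ⟶ Y) {T : EtCoh.Ab Y} (φ : T ⟶ (EtCoh.push f).obj T)
    (j : ∀ V : Y.Etale, V ⟶ (EtCoh.bc f).obj V)
    (jn : ∀ {A B : Y.Etale} (a : A ⟶ B), j A ≫ (EtCoh.bc f).map a = a ≫ j B) : T ⟶ T :=
  ⟨{ app := fun U => φ.hom.app U ≫ T.obj.map (j U.unop).op
     naturality := fun U U' a => by
      ext t
      show T.obj.map (j U'.unop).op (φ.hom.app U' (T.obj.map a t)) =
        T.obj.map a (T.obj.map (j U.unop).op (φ.hom.app U t))
      refine (congrArg (T.obj.map (j U'.unop).op) (NatTrans.naturality_apply φ.hom a t)).trans ?_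
      refine (Functor.map_comp_apply T.obj _ _ _).symm.trans (Eq.trans ?_ (Functor.map_comp_apply T.obj _ _ _))
      exact congrArg (fun z => T.obj.map z _) (congrArg Quiver.Hom.op (jn a.unop)) }⟩

theorem twist_apply (f : Y ⟶ Y) {T : EtCoh.Ab Y} (φ : T ⟶ (EtCoh.push f).obj T)
    (j : ∀ V : Y.Etale, V ⟶ (EtCoh.bc f).obj V)
    (jn : ∀ {A B : Y.Etale} (a : A ⟶ B), j A ≫ (EtCoh.bc f).map a = a ≫ j B) (V : Y.Etale)
    (s : T.obj.obj (op V)) :
    (twist f φ j jn).hom.app (op V) s = T.obj.map (j V).op (φ.hom.app (op V) s) := rfl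

theorem id_hom_apply {T : EtCoh.Ab Y} (V : Y.Etale) (s : T.obj.obj (op V)) :
    (𝟙 T : T ⟶ T).hom.app (op V) s = s := rfl

/-- Identity law for `psi`. -/
theorem psi_id (f : Y ⟶ Y) (hf : f = 𝟙 Y) (g : Y ⟶ Z) (w : f ≫ g = g) (G : EtCoh.Ab Z)
    (j : ∀ V : Y.Etale, V ⟶ (EtCoh.bc f).obj V)
    (hj : ∀ V, (j V).left ≫ pullback.fst V.hom f = 𝟙 _) (V : Y.Etale)
    (s : ((EtCoh.pull g).obj G).obj.obj (op V)) :
    ((EtCoh.pull g).obj G).obj.map (j V).op ((psi f g g w G).hom.app (op V) s) = s := by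
  have jn : ∀ {A B : Y.Etale} (a : A ⟶ B), j A ≫ (EtCoh.bc f).map a = a ≫ j B := fun {A B} a =>
    bc_hom_ext f (by
      show ((j A).left ≫ ((EtCoh.bc f).map a).left) ≫ _ = (a.left ≫ (j B).left) ≫ _
      rw [Category.assoc, Category.assoc, hj, show ((EtCoh.bc f).map a).left ≫ pullback.fst B.hom f =
        pullback.fst A.hom f ≫ a.left from pullback.lift_fst _ _ _]
      exact ((Category.assoc _ _ _).symm.trans (congrArg (· ≫ a.left) (hj A))).trans
        ((Category.id_comp _).trans (Category.comp_id _).symm))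
  have key : twist f (psi f g g w G) j jn = 𝟙 ((EtCoh.pull g).obj G) := pull_hom_ext g fun U t => by
    refine (twist_apply f (psi f g g w G) j jn _ _).trans (Eq.trans ?_ (id_hom_apply _ _).symm)
    let l : (EtCoh.bc f).obj ((EtCoh.bc g).obj U) ⟶ (EtCoh.bc g).obj U :=
      MorphismProperty.Over.homMk (pullback.fst ((EtCoh.bc g).obj U).hom f)
        (pullback.condition.trans (congrArg (_ ≫ ·) hf |>.trans (Category.comp_id _))) trivial
    refine (congrArg (((EtCoh.pull g).obj G).obj.map (j _).op) ((psi_apply f g g w G _ _).trans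
      (viaIso_unit f g g w G U l rfl t))).trans ?_
    refine (Functor.map_comp_apply _ _ _ _).symm.trans ?_
    rw [← op_comp, show j _ ≫ l = 𝟙 _ from MorphismProperty.Over.Hom.ext (hj _)]
    exact Functor.map_id_apply _ _ _
  exact (twist_apply f (psi f g g w G) j jn V s).symm.trans
    ((congrArg (fun k : (EtCoh.pull g).obj G ⟶ (EtCoh.pull g).obj G => k.hom.app (op V) s) key).trans
      (id_hom_apply V s))

/-- A map to an iterated direct image from a map to the direct image along the composite. -/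
noncomputable def twist₂ {Z : Scheme.{u}} (f : X ⟶ Y) (f' : Y ⟶ Z) (f'' : X ⟶ Z) {A : EtCoh.Ab Z}
    {T : EtCoh.Ab X} (φ : A ⟶ (EtCoh.push f'').obj T)
    (μ : ∀ V : Z.Etale, (EtCoh.bc f).obj ((EtCoh.bc f').obj V) ⟶ (EtCoh.bc f'').obj V)
    (μn : ∀ {V V' : Z.Etale} (a : V ⟶ V'), μ V ≫ (EtCoh.bc f'').map a =
      (EtCoh.bc f).map ((EtCoh.bc f').map a) ≫ μ V') :
    A ⟶ (EtCoh.push f').obj ((EtCoh.push f).obj T) :=
  ⟨{ app := fun U => φ.hom.app U ≫ T.obj.map (μ U.unop).op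
     naturality := fun U U' a => by
      ext t
      show T.obj.map (μ U'.unop).op (φ.hom.app U' (A.obj.map a t)) =
        T.obj.map ((EtCoh.bc f).map ((EtCoh.bc f').map a.unop)).op (T.obj.map (μ U.unop).op (φ.hom.app U t))
      refine (congrArg (T.obj.map (μ U'.unop).op) (NatTrans.naturality_apply φ.hom a t)).trans ?_
      refine (Functor.map_comp_apply T.obj _ _ _).symm.trans (Eq.trans ?_ (Functor.map_comp_apply T.obj _ _ _))
      exact congrArg (fun z => T.obj.map z _) (congrArg Quiver.Hom.op (μn a.unop)) }⟩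

theorem twist₂_apply {Z : Scheme.{u}} (f : X ⟶ Y) (f' : Y ⟶ Z) (f'' : X ⟶ Z) {A : EtCoh.Ab Z}
    {T : EtCoh.Ab X} (φ : A ⟶ (EtCoh.push f'').obj T)
    (μ : ∀ V : Z.Etale, (EtCoh.bc f).obj ((EtCoh.bc f').obj V) ⟶ (EtCoh.bc f'').obj V)
    (μn : ∀ {V V' : Z.Etale} (a : V ⟶ V'), μ V ≫ (EtCoh.bc f'').map a =
      (EtCoh.bc f).map ((EtCoh.bc f').map a) ≫ μ V') (V : Z.Etale) (s : A.obj.obj (op V)) :
    (twist₂ f f' f'' φ μ μn).hom.app (op V) s = T.obj.map (μ V).op (φ.hom.app (op V) s) := rfl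

theorem comp_push_apply {Z : Scheme.{u}} (f : X ⟶ Y) (f' : Y ⟶ Z) {A : EtCoh.Ab Z} {B : EtCoh.Ab Y}
    {T : EtCoh.Ab X} (α : A ⟶ (EtCoh.push f').obj B) (β : B ⟶ (EtCoh.push f).obj T)
    (V : Z.Etale) (s : A.obj.obj (op V)) :
    (α ≫ (EtCoh.push f').map β).hom.app (op V) s =
      β.hom.app (op ((EtCoh.bc f').obj V)) (α.hom.app (op V) s) := rfl

theorem push_naturality {A : EtCoh.Ab Y} {T : EtCoh.Ab X} (f : X ⟶ Y) (β : A ⟶ (EtCoh.push f).obj T)
    {V V' : Y.Etale} (a : V ⟶ V') (s : A.obj.obj (op V')) :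
    β.hom.app (op V) (A.obj.map a.op s) =
      T.obj.map ((EtCoh.bc f).map a).op (β.hom.app (op V') s) :=
  NatTrans.naturality_apply β.hom a.op s

/-- Extensionality for iterated transition maps. -/
theorem comp_eq_twist₂ {Z W : Scheme.{u}} (f : X ⟶ Y) (f' : Y ⟶ Z) (f'' : X ⟶ Z) (g : Z ⟶ W) {G : EtCoh.Ab W}
    {B : EtCoh.Ab Y} {T : EtCoh.Ab X} (α : (EtCoh.pull g).obj G ⟶ (EtCoh.push f').obj B)
    (β : B ⟶ (EtCoh.push f).obj T) (φ : (EtCoh.pull g).obj G ⟶ (EtCoh.push f'').obj T)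
    (μ : ∀ V : Z.Etale, (EtCoh.bc f).obj ((EtCoh.bc f').obj V) ⟶ (EtCoh.bc f'').obj V)
    (μn : ∀ {V V' : Z.Etale} (a : V ⟶ V'), μ V ≫ (EtCoh.bc f'').map a =
      (EtCoh.bc f).map ((EtCoh.bc f').map a) ≫ μ V')
    (h : ∀ (U : W.Etale) (t : G.obj.obj (op U)),
      β.hom.app (op ((EtCoh.bc f').obj ((EtCoh.bc g).obj U))) (α.hom.app (op ((EtCoh.bc g).obj U)) (secUnit g G U t)) =
        T.obj.map (μ ((EtCoh.bc g).obj U)).op (φ.hom.app (op ((EtCoh.bc g).obj U)) (secUnit g G U t)))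
    (V : Z.Etale) (s : ((EtCoh.pull g).obj G).obj.obj (op V)) :
    β.hom.app (op ((EtCoh.bc f').obj V)) (α.hom.app (op V) s) =
      T.obj.map (μ V).op (φ.hom.app (op V) s) := by
  have key : α ≫ (EtCoh.push f').map β = twist₂ f f' f'' φ μ μn := pull_hom_ext g fun U t =>
    (comp_push_apply f f' α β _ _).trans ((h U t).trans (twist₂_apply f f' f'' φ μ μn _ _).symm)
  exact (comp_push_apply f f' α β V s).symm.trans
    ((congrArg (fun k : (EtCoh.pull g).obj G ⟶ (EtCoh.push f').obj ((EtCoh.push f).obj T) =>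
      k.hom.app (op V) s) key).trans (twist₂_apply f f' f'' φ μ μn V s))

/-- Cocycle law for `psi`. -/
theorem psi_comp {W : Scheme.{u}} (f : X ⟶ Y) (f' : Y ⟶ Z) (f'' : X ⟶ Z) (g : Z ⟶ W) (g' : Y ⟶ W)
    (g'' : X ⟶ W) (w₁ : f' ≫ g = g') (w₂ : f ≫ g' = g'') (w₃ : f'' ≫ g = g'')
    (G : EtCoh.Ab W)
    (μ : ∀ V : Z.Etale, (EtCoh.bc f).obj ((EtCoh.bc f').obj V) ⟶ (EtCoh.bc f'').obj V)
    (hμ : ∀ V, (μ V).left ≫ pullback.fst V.hom f'' =
      pullback.fst ((EtCoh.bc f').obj V).hom f ≫ pullback.fst V.hom f') (V : Z.Etale)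
    (s : ((EtCoh.pull g).obj G).obj.obj (op V)) :
    (psi f g' g'' w₂ G).hom.app (op ((EtCoh.bc f').obj V)) ((psi f' g g' w₁ G).hom.app (op V) s) =
      ((EtCoh.pull g'').obj G).obj.map (μ V).op ((psi f'' g g'' w₃ G).hom.app (op V) s) := by
  have μn : ∀ {A B : Z.Etale} (a : A ⟶ B), μ A ≫ (EtCoh.bc f'').map a =
      (EtCoh.bc f).map ((EtCoh.bc f').map a) ≫ μ B := fun {A B} a =>
    bc_hom_ext f'' (by
      show ((μ A).left ≫ ((EtCoh.bc f'').map a).left) ≫ _ =
        (((EtCoh.bc f).map ((EtCoh.bc f').map a)).left ≫ (μ B).left) ≫ _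
      rw [Category.assoc, Category.assoc, hμ,
        show ((EtCoh.bc f'').map a).left ≫ pullback.fst B.hom f'' = pullback.fst A.hom f'' ≫ a.left
          from pullback.lift_fst _ _ _]
      refine ((Category.assoc _ _ _).symm.trans (congrArg (· ≫ a.left) (hμ A))).trans ?_
      refine Eq.trans ?_ ((congrArg (· ≫ pullback.fst B.hom f')
        (pullback.lift_fst _ _ _).symm).trans (Category.assoc _ _ _))
      exact ((Category.assoc _ _ _).trans (congrArg (_ ≫ ·) (pullback.lift_fst _ _ _).symm)).trans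
        (Category.assoc _ _ _).symm)
  refine comp_eq_twist₂ f f' f'' g (psi f' g g' w₁ G) (psi f g' g'' w₂ G) (psi f'' g g'' w₃ G) μ μn (fun U t => ?_) V s
  let l₁ : (EtCoh.bc f').obj ((EtCoh.bc g).obj U) ⟶ (EtCoh.bc g').obj U :=
    MorphismProperty.Over.homMk (pullback.lift
      (pullback.fst ((EtCoh.bc g).obj U).hom f' ≫ pullback.fst U.hom g)
      (pullback.snd ((EtCoh.bc g).obj U).hom f')
      (by rw [Category.assoc, pullback.condition, ← w₁]
          exact (Category.assoc _ _ _).symm.trans ((congrArg (· ≫ g) pullback.condition).trans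
            (Category.assoc _ _ _))))
      (pullback.lift_snd _ _ _) trivial
  let l₂ : (EtCoh.bc f).obj ((EtCoh.bc g').obj U) ⟶ (EtCoh.bc g'').obj U :=
    MorphismProperty.Over.homMk (pullback.lift
      (pullback.fst ((EtCoh.bc g').obj U).hom f ≫ pullback.fst U.hom g')
      (pullback.snd ((EtCoh.bc g').obj U).hom f)
      (by rw [Category.assoc, pullback.condition, ← w₂]
          exact (Category.assoc _ _ _).symm.trans ((congrArg (· ≫ g') pullback.condition).trans
            (Category.assoc _ _ _))))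
      (pullback.lift_snd _ _ _) trivial
  let l₃ : (EtCoh.bc f'').obj ((EtCoh.bc g).obj U) ⟶ (EtCoh.bc g'').obj U :=
    MorphismProperty.Over.homMk (pullback.lift
      (pullback.fst ((EtCoh.bc g).obj U).hom f'' ≫ pullback.fst U.hom g)
      (pullback.snd ((EtCoh.bc g).obj U).hom f'')
      (by rw [Category.assoc, pullback.condition, ← w₃]
          exact (Category.assoc _ _ _).symm.trans ((congrArg (· ≫ g) pullback.condition).trans
            (Category.assoc _ _ _))))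
      (pullback.lift_snd _ _ _) trivial
  have e₁ := (psi_apply f' g g' w₁ G _ _).trans (viaIso_unit f' g g' w₁ G U l₁ (pullback.lift_fst _ _ _) t)
  have e₂ := (psi_apply f g' g'' w₂ G _ _).trans (viaIso_unit f g' g'' w₂ G U l₂ (pullback.lift_fst _ _ _) t)
  have e₃ := (psi_apply f'' g g'' w₃ G _ _).trans (viaIso_unit f'' g g'' w₃ G U l₃ (pullback.lift_fst _ _ _) t)
  refine (congrArg ((psi f g' g'' w₂ G).hom.app _) e₁).trans ?_
  refine (push_naturality f (psi f g' g'' w₂ G) l₁ _).trans ?_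
  refine (congrArg (((EtCoh.pull g'').obj G).obj.map ((EtCoh.bc f).map l₁).op) e₂).trans ?_
  refine Eq.trans ?_ (congrArg (((EtCoh.pull g'').obj G).obj.map (μ _).op) e₃).symm
  refine (Functor.map_comp_apply _ _ _ _).symm.trans (Eq.trans ?_ (Functor.map_comp_apply _ _ _ _))
  refine congrArg (fun z => ((EtCoh.pull g'').obj G).obj.map z (secUnit g'' G U t)) (congrArg Quiver.Hom.op
    (a₁ := (EtCoh.bc f).map l₁ ≫ l₂) (a₂ := μ _ ≫ l₃) (bc_hom_ext g'' ?_))
  show (((EtCoh.bc f).map l₁).left ≫ l₂.left) ≫ _ = ((μ _).left ≫ l₃.left) ≫ _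
  simp only [Category.assoc]
  erw [pullback.lift_fst, pullback.lift_fst]
  erw [← Category.assoc, pullback.lift_fst, ← Category.assoc, hμ, Category.assoc, pullback.lift_fst]
  exact (Category.assoc _ _ _).symm

end Groth.Agent.H1Lim
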