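import Groth.Agent.H1Lim.Cat
import Groth.Agent.H7Lim.Basic
import Groth.Agent.H18Et.Support

/-!
# A local property covering the limit covers some stage
-/

set_option autoImplicit false
set_option backward.isDefEq.respectTransparency false
set_option backward.isDefEq.respectTransparency.types false

universe u

open CategoryTheory CategoryTheory.Limits AlgebraicGeometry Opposite

namespace Groth.Agent.H1Lim

open Groth.Agent.H7Lim

variable {I : Type u} [SmallCategory I] {D : I ⥤ Scheme.{u}}

/-- The transition map between base changes of `U`. -/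
noncomputable def stageMap {i j k : I} {a : j ⟶ i} {b : k ⟶ i} (f : k ⟶ j) (hb : f ≫ a = b)
    (U : (D.obj i).Etale) : bcObj b U ⟶ bcObj a U :=
  ⟨f, pullback.map U.hom (D.map b) U.hom (D.map a) (𝟙 _) (D.map f) (𝟙 _)
      ((Category.comp_id _).trans (Category.id_comp _).symm)
      ((Category.comp_id _).trans ((congrArg D.map hb.symm).trans (D.map_comp f a))),
    pullback.lift_snd _ _ _⟩

theorem stageMap_proj {i j k : I} {a : j ⟶ i} {b : k ⟶ i} (f : k ⟶ j) (hb : f ≫ a = b)
    (U : (D.obj i).Etale) : stageMap f hb U ≫ proj a U = proj b U :=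
  Tot.hom_ext hb ((pullback.lift_fst _ _ _).trans (Category.comp_id _))

variable {i : I} (U : (D.obj i).Etale) (Φ : ∀ ⦃A : Tot D⦄, (A ⟶ (incl i).obj U) → Prop)

/-- Points having an étale neighbourhood in the stage on which the property holds. -/
def pts {j : I} (a : j ⟶ i) : Set ((EtCoh.bc (D.map a)).obj U).left :=
  {v | ∃ (W : (D.obj j).Etale) (g : W ⟶ (EtCoh.bc (D.map a)).obj U) (w : W.left),
    g.left.base w = v ∧ Φ ((incl j).map g ≫ proj a U)}

theorem isOpen_pts {j : I} (a : j ⟶ i) : IsOpen (pts U Φ a) := by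
  rw [isOpen_iff_forall_mem_open]
  rintro v ⟨W, g, w, rfl, hg⟩
  have := H18Et.etale_left g
  exact ⟨Set.range g.left.base, fun _ ⟨w', hw'⟩ => ⟨W, g, w', hw', hg⟩,
    g.left.isOpenMap.isOpen_range, w, rfl⟩

variable (hΦ : ∀ ⦃A B : Tot D⦄ (m : A ⟶ B) (h : B ⟶ (incl i).obj U), Φ h → Φ (m ≫ h))

include hΦ in
theorem mem_pts_stageMap {j k : I} {a : j ⟶ i} {b : k ⟶ i} (f : k ⟶ j) (hb : f ≫ a = b)
    (v : ((EtCoh.bc (D.map b)).obj U).left) (hv : (stageMap f hb U).top.base v ∈ pts U Φ a) :
    v ∈ pts U Φ b := by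
  obtain ⟨W, g, w, hw, hg⟩ := hv
  let Vb := (EtCoh.bc (D.map b)).obj U
  let T : Vb.left ⟶ ((EtCoh.bc (D.map a)).obj U).left := (stageMap f hb U).top
  have := H18Et.etale_left g
  have : Etale Vb.hom := Vb.prop
  let Q : (D.obj k).Etale := MorphismProperty.Over.mk ⊤ (pullback.snd g.left T ≫ Vb.hom)
    (inferInstanceAs (Etale _))
  let q : Q ⟶ Vb := MorphismProperty.Over.homMk (pullback.snd g.left T) rfl trivial
  let M : (incl k).obj Q ⟶ (incl j).obj W := ⟨f, pullback.fst g.left T, by
    refine (congrArg (pullback.fst g.left T ≫ ·) (MorphismProperty.Over.w g).symm).trans ?_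
    refine (pullback.condition_assoc _).trans ?_
    exact (congrArg (pullback.snd g.left T ≫ ·) (stageMap f hb U).w).trans (Category.assoc _ _ _).symm⟩
  have e : (incl k).map q ≫ stageMap f hb U = M ≫ (incl j).map g :=
    Tot.hom_ext ((Category.id_comp _).trans (Category.comp_id _).symm) pullback.condition.symm
  obtain ⟨z, -, hz⟩ := Scheme.Pullback.exists_preimage_pullback (f := g.left) (g := T) w v hw
  refine ⟨Q, q, z, hz, ?_⟩
  rw [← stageMap_proj f hb U, ← Category.assoc, e, Category.assoc]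
  exact hΦ M _ hg

variable (c : Cone D) (hc : IsLimit c) [IsCofiltered I]
  [∀ ⦃a b : I⦄ (f : a ⟶ b), IsAffineHom (D.map f)] [∀ a, CompactSpace (D.obj a)]

include hΦ hc in
/-- If the property holds around every point of the limit, it holds around every point of a stage. -/
theorem exists_pts_eq_univ [CompactSpace U.left]
    (hcov : ∀ w : ((toCone c).obj ((incl i).obj U)).left, ∃ (k : I) (W : (D.obj k).Etale)
      (h : (incl k).obj W ⟶ (incl i).obj U) (w' : ((toCone c).obj ((incl k).obj W)).left),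
      ((toCone c).map h).left.base w' = w ∧ Φ h) :
    ∃ (j : I) (a : j ⟶ i), pts U Φ a = Set.univ := by
  classical
  haveI : ∀ (p q : I) (f : p ⟶ q), IsAffineHom (D.map f) := fun p q f => inferInstance
  let Dg := pbDiagram D i U.hom
  let Cn := pbCone D c i U.hom
  have hlim : IsLimit Cn := isLimitPbCone D i U.hom hc
  haveI : ∀ j, CompactSpace (Dg.obj j) := fun j => @compactSpace_pbDiagram_obj I _ D i U.left U.hom _ ‹CompactSpace U.left› j
  have : CompactSpace Cn.pt := Scheme.compactSpace_of_isLimit Dg Cn hlim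
  have hp : ∀ w : Cn.pt, ∃ j : Over i, (Cn.π.app j).base w ∈ pts U Φ j.hom := by
    intro w
    obtain ⟨k, W, h, w', rfl, hh⟩ := hcov w
    refine ⟨Over.mk h.base, W, fibPart h, (pullback.fst W.hom (c.π.app k)).base w', ?_, ?_⟩
    · have e : pullback.fst W.hom (c.π.app k) ≫ (fibPart h).left =
          ((toCone c).map h).left ≫ Cn.π.app (Over.mk h.base) := by
        refine pullback.hom_ext ?_ ?_
        · refine ((Category.assoc _ _ _).trans (congrArg (_ ≫ ·) (pullback.lift_fst _ _ _))).trans ?_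
          refine (toCone_map_fst c h).symm.trans ?_
          exact (congrArg (_ ≫ ·) ((pullback.lift_fst _ _ _).trans (Category.comp_id _)).symm).trans
            (Category.assoc _ _ _).symm
        · refine ((Category.assoc _ _ _).trans (congrArg (_ ≫ ·) (pullback.lift_snd _ _ _))).trans ?_
          refine pullback.condition.trans ?_
          refine (congrArg (· ≫ c.π.app k) (toCone_map_snd c h).symm).trans ?_
          exact ((Category.assoc _ _ _).trans (congrArg (_ ≫ ·) (pullback.lift_snd _ _ _).symm)).trans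
            (Category.assoc _ _ _).symm
      exact congrArg (fun z => z.base w') e
    · show Φ ((incl k).map (fibPart h) ≫ proj h.base U)
      rw [fibPart_proj]
      exact hh
  choose jj hjj using hp
  obtain ⟨t, ht⟩ := (isCompact_univ (X := Cn.pt)).elim_finite_subcover
    (fun w => (Cn.π.app (jj w)).base ⁻¹' pts U Φ (jj w).hom)
    (fun w => (isOpen_pts U Φ _).preimage (Cn.π.app (jj w)).continuous)
    fun w _ => Set.mem_iUnion.2 ⟨w, hjj w⟩
  obtain ⟨j₀, hj₀⟩ := IsCofiltered.inf_objs_exists (t.image jj)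
  let O : (Dg.obj j₀).Opens := ⟨pts U Φ j₀.hom, isOpen_pts U Φ _⟩
  have hO : Cn.π.app j₀ ⁻¹ᵁ O = ⊤ := by
    refine TopologicalSpace.Opens.ext (Set.eq_univ_of_forall fun w => ?_)
    obtain ⟨p, hp, hw⟩ := Set.mem_iUnion₂.1 (ht (Set.mem_univ w))
    let f : j₀ ⟶ jj p := (hj₀ (Finset.mem_image_of_mem jj hp)).some
    refine mem_pts_stageMap U Φ hΦ f.left (Over.w f) ((Cn.π.app j₀).base w) ?_
    have hw' := congrArg (fun z => z.base w) (Cn.w f)
    exact (show (stageMap f.left (Over.w f) U).top.base ((Cn.π.app j₀).base w) =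
      (Cn.π.app (jj p)).base w from hw').symm ▸ hw
  obtain ⟨j₁, f, hf⟩ := exists_map_eq_top Dg Cn hlim O hO
  refine ⟨j₁.left, j₁.hom, Set.eq_univ_of_forall fun v => ?_⟩
  exact mem_pts_stageMap U Φ hΦ f.left (Over.w f) v (hf.ge (Set.mem_univ v))

end Groth.Agent.H1Lim
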