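import Groth.Agent.H1Lim.Germs
import Groth.Agent.H1Lim.Stages
import Groth.Agent.H18Et.AffineCriterion

/-!
# Sections of the limit sheaf over a quasi-compact quasi-separated base changed object
-/

set_option autoImplicit false
set_option backward.isDefEq.respectTransparency false
set_option backward.isDefEq.respectTransparency.types false

universe u

open CategoryTheory CategoryTheory.Limits AlgebraicGeometry Opposite

namespace Groth.Agent.H1Lim

open scoped Groth.Agent.H18Et Groth.Agent.H18Et.CohColim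
open Groth.Agent.H18Et Groth.Agent.H18Et.AffineCriterion Groth.Agent.H7Lim

section General

variable {X Y : Scheme.{u}}

theorem mem_range_bc_map (f : X ⟶ Y) {U V : Y.Etale} (g : V ⟶ U) (x : ((EtCoh.bc f).obj U).left)
    (h : (pullback.fst U.hom f).base x ∈ Set.range g.left.base) :
    x ∈ Set.range ((EtCoh.bc f).map g).left.base := by
  obtain ⟨v, hv⟩ := h
  obtain ⟨z, hz, -⟩ := Scheme.Pullback.exists_preimage_pullback
    (f := (pullback.fst U.hom f : ((EtCoh.bc f).obj U).left ⟶ U.left)) (g := g.left) x v hv.symm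
  refine ⟨(EtCoh.isPullback_bc_map f g).isoPullback.inv z, ?_⟩
  rw [← hz, ← Scheme.Hom.comp_apply, IsPullback.isoPullback_inv_fst]
  rfl

theorem sect_eq_zero_of_local (F : EtCoh.Ab X) {U : X.Etale} (s : EtCoh.sect F U)
    (h : ∀ u : U.left, ∃ (W : X.Etale) (g : W ⟶ U), u ∈ Set.range g.left.base ∧ F.obj.map g.op s = 0) :
    s = 0 := by
  have h2 : F.obj.map (𝟙 U).op s = 0 := (map_eq_zero_iff_range_subset F s (𝟙 U)).2 fun x _ hx => by
    obtain ⟨W, g, ⟨w, hw⟩, hg⟩ := h x
    exact hx W g ⟨w, hw⟩ hg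
  simpa using h2

end General

variable {I : Type u} [SmallCategory I] {D : I ⥤ Scheme.{u}} (c : Cone D)

theorem projInv_left_fst {i : I} (U : (D.obj i).Etale) (j : Over i) :
    (projInv c j.hom U).left ≫ pullback.fst ((EtCoh.bc (D.map j.hom)).obj U).hom (c.π.app j.left) =
      (pbCone D c i U.hom).π.app j :=
  (pullback.lift_fst _ _ _).trans (pullback.hom_ext
    ((pullback.lift_fst _ _ _).trans ((pullback.lift_fst _ _ _).trans (Category.comp_id _)).symm)
    ((pullback.lift_snd _ _ _).trans (pullback.lift_snd _ _ _).symm))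

theorem toCone_proj_π {i : I} (U : (D.obj i).Etale) (j : Over i) :
    ((toCone c).map (proj j.hom U)).left ≫ (pbCone D c i U.hom).π.app j =
      pullback.fst ((EtCoh.bc (D.map j.hom)).obj U).hom (c.π.app j.left) := by
  refine (congrArg (((toCone c).map (proj j.hom U)).left ≫ ·) (projInv_left_fst c U j).symm).trans ?_
  refine (Category.assoc _ _ _).symm.trans ?_
  exact (congrArg (fun z : (toCone c).obj (bcObj j.hom U) ⟶ (toCone c).obj (bcObj j.hom U) =>
    z.left ≫ pullback.fst ((EtCoh.bc (D.map j.hom)).obj U).hom (c.π.app j.left))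
      (show (toCone c).map (proj j.hom U) ≫ projInv c j.hom U = 𝟙 _ from
        (cancel_mono ((toCone c).map (proj j.hom U))).1 (by
          rw [Category.assoc, projInv_comp, Category.comp_id, Category.id_comp]))).trans
    (Category.id_comp _)

variable [IsCofiltered I]

/-- The fibre map of a base change along the projection. -/
theorem fib_map_proj {Ω : Type u} [Field Ω] [IsSepClosed Ω] (ξ : Spec (CommRingCat.of Ω) ⟶ c.pt)
    {i k : I} (a : k ⟶ i) (U : (D.obj i).Etale) (y : (fib c ξ).obj ((toCone c).obj ((incl i).obj U))) :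
    (fib c ξ).map ((toCone c).map (proj a U)) ((fib c ξ).map (projInv c a U) y) = y :=
  (Functor.map_comp_apply (fib c ξ) (projInv c a U) ((toCone c).map (proj a U)) y).symm.trans
    ((congrArg (fun z => (fib c ξ).map z y) (projInv_comp c a U)).trans
      (Functor.map_id_apply (fib c ξ) _ y))

variable (P : Sys D)

theorem germ_toLim_map {Ω : Type u} [Field Ω] [IsSepClosed Ω] (ξ : Spec (CommRingCat.of Ω) ⟶ c.pt)
    {i k : I} {W : (D.obj k).Etale} {U : (D.obj i).Etale} (h : (incl k).obj W ⟶ (incl i).obj U)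
    (q : (fib c ξ).obj ((toCone c).obj ((incl k).obj W))) (s : EtCoh.sect ((res D i).obj P) U) :
    germ ξ ((limSheaf c).obj P) ((toCone c).obj ((incl k).obj W)) q (toLim c P k W (P.obj.map h.op s)) =
      germ ξ ((limSheaf c).obj P) ((toCone c).obj ((incl i).obj U))
        ((fib c ξ).map ((toCone c).map h) q) (toLim c P i U s) := by
  rw [← toLim_naturality c P h s]
  exact (Scheme.pointSmallEtale ξ).toPresheafFiber_w_apply ((toCone c).map h) q _ _

variable (hc : IsLimit c) [∀ ⦃a b : I⦄ (f : a ⟶ b), IsAffineHom (D.map f)]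
  [∀ a, CompactSpace (D.obj a)] {i : I}

include hc in
/-- A section killed in the limit is killed at a stage. -/
theorem sect_zero (U : (D.obj i).Etale) [CompactSpace U.left] (s : EtCoh.sect ((res D i).obj P) U)
    (hs : toLim c P i U s = 0) : ∃ (j : I) (a : j ⟶ i), P.obj.map (proj a U).op s = 0 := by
  let Φ : ∀ ⦃A : Tot D⦄, (A ⟶ (incl i).obj U) → Prop := fun A h => P.obj.map h.op s = 0
  obtain ⟨j, a, ha⟩ := exists_pts_eq_univ U Φ
    (fun A B m h hh => show P.obj.map (m ≫ h).op s = 0 by
      rw [op_comp, Functor.map_comp_apply, show P.obj.map h.op s = 0 from hh, map_zero]) c hc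
    fun w => by
      obtain ⟨y, hy⟩ := exists_fiber_over w (geomPt _) (geomPt_base _)
      obtain ⟨k, W, h, y', hy', hh⟩ := germ_zero c _ P y s (by rw [hs, map_zero])
      exact ⟨k, W, h, ptOf y', (ptOf_map ((toCone c).map h) y').trans ((congrArg ptOf hy').trans hy), hh⟩
  refine ⟨j, a, sect_eq_zero_of_local ((res D j).obj P) (U := (EtCoh.bc (D.map a)).obj U) _ fun v => ?_⟩
  obtain ⟨W, g, w, hw, hg⟩ := ha.ge (Set.mem_univ v)
  exact ⟨W, g, ⟨w, hw⟩, (Functor.map_comp_apply P.obj (proj a U).op ((incl j).map g).op s).symm.trans hg⟩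

/-- Restriction of `σ` along `h` comes from a member. -/
def FromStage {U : (D.obj i).Etale}
    (σ : EtCoh.sect ((limSheaf c).obj P) ((toCone c).obj ((incl i).obj U))) ⦃A : Tot D⦄
    (h : A ⟶ (incl i).obj U) : Prop :=
  ∃ t : EtCoh.sect ((res D A.idx).obj P) A.U,
    ((limSheaf c).obj P).obj.map ((toCone c).map h).op σ = toLim c P A.idx A.U t

theorem fromStage_comp {U : (D.obj i).Etale}
    (σ : EtCoh.sect ((limSheaf c).obj P) ((toCone c).obj ((incl i).obj U))) ⦃A B : Tot D⦄
    (m : A ⟶ B) (h : B ⟶ (incl i).obj U) (hh : FromStage c P σ h) : FromStage c P σ (m ≫ h) := by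
  obtain ⟨t, ht⟩ := hh
  refine ⟨P.obj.map m.op t, ?_⟩
  rw [Functor.map_comp, op_comp, Functor.map_comp_apply, ht]
  exact toLim_naturality c P (i := B.idx) (k := A.idx) (W := A.U) (U := B.U) m t

include hc in
theorem exists_fromStage_nbhd {U : (D.obj i).Etale}
    (σ : EtCoh.sect ((limSheaf c).obj P) ((toCone c).obj ((incl i).obj U)))
    (w : ((toCone c).obj ((incl i).obj U)).left) :
    ∃ (k : I) (W : (D.obj k).Etale) (h : (incl k).obj W ⟶ (incl i).obj U)
      (w' : ((toCone c).obj ((incl k).obj W)).left),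
      ((toCone c).map h).left.base w' = w ∧ FromStage c P σ h := by
  let L := (limSheaf c).obj P
  let ξ := geomPt (((toCone c).obj ((incl i).obj U)).hom.base w)
  obtain ⟨y, hy⟩ := exists_fiber_over w ξ (geomPt_base _)
  obtain ⟨k, W, y', s, hs⟩ := germ_surj c ξ P (germ ξ L ((toCone c).obj ((incl i).obj U)) y σ)
  let k₀ := IsCofiltered.min i k
  let a₁ : k₀ ⟶ i := IsCofiltered.minToLeft i k
  let a₂ : k₀ ⟶ k := IsCofiltered.minToRight i k
  let U₁ := (EtCoh.bc (D.map a₁)).obj U
  let W₂ := (EtCoh.bc (D.map a₂)).obj W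
  let e := fiberCompIso (c.π.app k₀) ξ
  let z₁ := e.hom.app U₁ ((fib c ξ).map (projInv c a₁ U) y)
  let z₂ := e.hom.app W₂ ((fib c ξ).map (projInv c a₂ W) y')
  obtain ⟨⟨Q, z⟩, ⟨g₁, hg₁⟩, ⟨g₂, hg₂⟩, -⟩ := IsCofilteredOrEmpty.cone_objs
    (C := (Scheme.pointSmallEtale (ξ ≫ c.π.app k₀)).fiber.Elements) ⟨U₁, z₁⟩ ⟨W₂, z₂⟩
  dsimp at g₁ g₂ hg₁ hg₂
  let q : (fib c ξ).obj ((toCone c).obj ((incl k₀).obj Q)) := e.inv.app Q z
  let h₁ : (incl k₀).obj Q ⟶ (incl i).obj U := (incl k₀).map g₁ ≫ proj a₁ U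
  let h₂ : (incl k₀).obj Q ⟶ (incl k).obj W := (incl k₀).map g₂ ≫ proj a₂ W
  have hq : ∀ (V : (D.obj k₀).Etale) (g : Q ⟶ V) (x : (fib c ξ).obj ((toCone c).obj ((incl k₀).obj V))),
      (Scheme.pointSmallEtale (ξ ≫ c.π.app k₀)).fiber.map g z = e.hom.app V x →
        (fib c ξ).map ((toCone c).map ((incl k₀).map g)) q = x := by
    intro V g x hx
    have hn := ConcreteCategory.congr_hom (e.inv.naturality g) z
    simp only [CategoryTheory.comp_apply, Functor.comp_map] at hn
    refine (congrArg (fun m => (fib c ξ).map m q) (toCone_incl_map c g)).trans ?_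
    exact hn.symm.trans ((congrArg (fun v => e.inv.app V v) hx).trans (iso_inv_hom_apply e V x))
  have hq₁ : (fib c ξ).map ((toCone c).map h₁) q = y := by
    refine ((congrArg (fun m => (fib c ξ).map m q) ((toCone c).map_comp _ _)).trans
      (Functor.map_comp_apply (fib c ξ) _ _ q)).trans ?_
    exact (congrArg (fun v => (fib c ξ).map ((toCone c).map (proj a₁ U)) v) (hq U₁ g₁ _ hg₁)).trans
      (fib_map_proj c ξ a₁ U y)
  have hq₂ : (fib c ξ).map ((toCone c).map h₂) q = y' := by
    refine ((congrArg (fun m => (fib c ξ).map m q) ((toCone c).map_comp _ _)).trans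
      (Functor.map_comp_apply (fib c ξ) _ _ q)).trans ?_
    exact (congrArg (fun v => (fib c ξ).map ((toCone c).map (proj a₂ W)) v) (hq W₂ g₂ _ hg₂)).trans
      (fib_map_proj c ξ a₂ W y')
  let δ : EtCoh.sect L ((toCone c).obj ((incl k₀).obj Q)) :=
    L.obj.map ((toCone c).map h₁).op σ - toLim c P k₀ Q (P.obj.map h₂.op s)
  have hδ : ptOf q ∉ EtShriek.sectSupp L ((toCone c).obj ((incl k₀).obj Q)) δ := by
    refine (germ_eq_zero_iff L q δ).1 ?_
    rw [map_sub, sub_eq_zero]
    refine ((Scheme.pointSmallEtale ξ).toPresheafFiber_w_apply ((toCone c).map h₁) q L.obj σ).trans ?_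
    refine (congrArg (fun v => germ ξ L _ v σ) hq₁).trans (hs.symm.trans ?_)
    refine Eq.trans ?_ (germ_toLim_map c P ξ h₂ q s).symm
    exact (congrArg (fun v => germ ξ L _ v (toLim c P k W s)) hq₂).symm
  haveI : ∀ (p r : I) (f : p ⟶ r), IsAffineHom (D.map f) := fun p r f => inferInstance
  let Cn := pbCone D c k₀ Q.hom
  obtain ⟨_, ⟨j, V, -, rfl⟩, hqV, hVle⟩ := TopologicalSpace.Opens.isBasis_iff_nbhd.1
    (isBasis_preimage_isAffineOpen (pbDiagram D k₀ Q.hom) Cn (isLimitPbCone D k₀ Q.hom hc))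
    (show ptOf q ∈ (⟨(EtShriek.sectSupp L ((toCone c).obj ((incl k₀).obj Q)) δ)ᶜ,
      (isClosed_sectSupp L _ δ).isOpen_compl⟩ :
        TopologicalSpace.Opens ((toCone c).obj ((incl k₀).obj Q)).left) from hδ)
  let Qj := (EtCoh.bc (D.map j.hom)).obj Q
  let W₃ := openObj Qj V
  let m : (incl j.left).obj W₃ ⟶ (incl k₀).obj Q := (incl j.left).map (openHom Qj V) ≫ proj j.hom Q
  have hm : ((toCone c).map m).left ≫ Cn.π.app j = pullback.fst W₃.hom (c.π.app j.left) ≫ V.ι := by
    refine (congrArg (fun z : (toCone c).obj ((incl j.left).obj W₃) ⟶ (toCone c).obj ((incl k₀).obj Q) =>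
      z.left ≫ Cn.π.app j) ((toCone c).map_comp _ _)).trans ?_
    refine (Category.assoc _ _ _).trans ((congrArg (_ ≫ ·) (toCone_proj_π c Q j)).trans ?_)
    refine (congrArg (fun z : (toCone c).obj ((incl j.left).obj W₃) ⟶ (toCone c).obj ((incl j.left).obj Qj) =>
      z.left ≫ pullback.fst Qj.hom (c.π.app j.left)) (toCone_incl_map c (openHom Qj V))).trans ?_
    exact bc_map_fst _ _
  have hr : ptOf q ∈ Set.range ((toCone c).map m).left.base := by
    let x := (projInv c j.hom Q).left.base (ptOf q)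
    have hx : (pullback.fst Qj.hom (c.π.app j.left)).base x ∈ Set.range (openHom Qj V).left.base := by
      have := congrArg (fun z => z.base (ptOf q)) (projInv_left_fst c Q j)
      exact ⟨⟨_, hqV⟩, this.symm⟩
    obtain ⟨v, hv⟩ := mem_range_bc_map (c.π.app j.left) (openHom Qj V) x hx
    refine ⟨v, ?_⟩
    have e1 := congrArg (fun z : (toCone c).obj ((incl j.left).obj W₃) ⟶ (toCone c).obj ((incl k₀).obj Q) =>
      z.left.base v) ((toCone c).map_comp ((incl j.left).map (openHom Qj V)) (proj j.hom Q))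
    refine e1.trans ?_
    refine (congrArg (fun z => ((toCone c).map (proj j.hom Q)).left.base z)
      ((congrArg (fun z : (toCone c).obj ((incl j.left).obj W₃) ⟶ (toCone c).obj ((incl j.left).obj Qj) =>
        z.left.base v) (toCone_incl_map c (openHom Qj V))).trans hv)).trans ?_
    exact congrArg (fun z : (toCone c).obj ((incl k₀).obj Q) ⟶ (toCone c).obj ((incl k₀).obj Q) =>
      z.left.base (ptOf q)) (projInv_comp c j.hom Q)
  obtain ⟨w', hw'⟩ := hr
  refine ⟨j.left, W₃, m ≫ h₁, w', ?_, P.obj.map (m ≫ h₂).op s, ?_⟩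
  · rw [Functor.map_comp]
    refine (congrArg (fun z => ((toCone c).map h₁).left.base z) hw').trans ?_
    exact (ptOf_map ((toCone c).map h₁) q).trans ((congrArg ptOf hq₁).trans hy)
  · have hz : L.obj.map ((toCone c).map m).op δ = 0 := by
      refine (map_eq_zero_iff_range_subset L δ _).2 ?_
      rintro _ ⟨v, rfl⟩
      apply hVle
      show (Cn.π.app j).base (((toCone c).map m).left.base v) ∈ V
      have e3 : (Cn.π.app j).base (((toCone c).map m).left.base v) =
          V.ι.base ((pullback.fst W₃.hom (c.π.app j.left)).base v) :=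
        congrArg (fun z => z.base v) hm
      rw [e3]
      exact ((pullback.fst W₃.hom (c.π.app j.left)).base v).2
    rw [map_sub, sub_eq_zero] at hz
    rw [Functor.map_comp, op_comp, Functor.map_comp_apply, hz]
    exact (toLim_naturality c P m (P.obj.map h₂.op s)).trans
      (congrArg (toLim c P j.left W₃) (Functor.map_comp_apply P.obj h₂.op m.op s).symm)

omit [∀ a, CompactSpace (D.obj a)] in
/-- Finitely many arrows to an object have a common refinement. -/
theorem exists_common {J : Type*} [Category J] [IsCofiltered J] {j : J} {κ : Type*} [Finite κ]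
    (cc : κ → J) (a : ∀ p, cc p ⟶ j) :
    ∃ (b : J) (β : b ⟶ j) (f : ∀ p, b ⟶ cc p), ∀ p, f p ≫ a p = β := by
  classical
  haveI := Fintype.ofFinite κ
  obtain ⟨b, hb⟩ := IsCofiltered.inf_objs_exists
    (insert (Over.mk (𝟙 j)) (Finset.univ.image fun p => Over.mk (a p)))
  let f : ∀ p, b ⟶ Over.mk (a p) := fun p =>
    (hb (Finset.mem_insert_of_mem (Finset.mem_image_of_mem _ (Finset.mem_univ p)))).some
  exact ⟨b.left, b.hom, fun p => (f p).left, fun p => Over.w (f p)⟩

variable [∀ a, QuasiSeparatedSpace (D.obj a)]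

include hc in
/-- Every section of the limit sheaf over a qcqs base changed object comes from a stage. -/
theorem sect_surj (U : (D.obj i).Etale) [CompactSpace U.left] [QuasiSeparatedSpace U.left]
    (σ : EtCoh.sect ((limSheaf c).obj P) ((toCone c).obj ((incl i).obj U))) :
    ∃ (j : I) (a : j ⟶ i), FromStage c P σ (proj a U) := by
  classical
  let L := (limSheaf c).obj P
  obtain ⟨j, a, ha⟩ := exists_pts_eq_univ U (FromStage c P σ) (fromStage_comp c P σ) c hc
    (exists_fromStage_nbhd c P hc σ)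
  let Va := (EtCoh.bc (D.map a)).obj U
  haveI : CompactSpace Va.left :=
    @compactSpace_pbDiagram_obj I _ D i U.left U.hom (fun p r f => inferInstance) ‹_› (Over.mk a)
  haveI : QuasiSeparatedSpace Va.left :=
    @quasiSeparatedSpace_pbDiagram_obj I _ D i U.left U.hom (fun p r f => inferInstance) ‹_› (Over.mk a)
  have hloc : ∀ v : Va.left, ∃ (W : (D.obj j).Etale) (_ : IsAffine W.left) (g : W ⟶ Va),
      v ∈ Set.range g.left.base ∧ FromStage c P σ ((incl j).map g ≫ proj a U) := by
    intro v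
    obtain ⟨W, g, w, hw, hg⟩ := ha.ge (Set.mem_univ v)
    obtain ⟨B, hB, hwB, -⟩ := exists_isAffineOpen_mem_and_subset (X := W.left) (x := w) (U := ⊤) trivial
    refine ⟨openObj W B, hB, openHom W B ≫ g, ⟨⟨w, hwB⟩, hw⟩, ?_⟩
    rw [Functor.map_comp, Category.assoc]
    exact fromStage_comp c P σ _ _ hg
  choose W hW g hvW t ht using hloc
  haveI : ∀ v, Etale (g v).left := fun v => etale_left (g v)
  haveI : ∀ v, IsAffine (W v).left := hW
  haveI : ∀ v, QuasiCompact (g v).left := fun v => quasiCompact_of_compactSpace _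
  obtain ⟨K, hK⟩ := (isCompact_univ (X := Va.left)).elim_finite_subcover
    (fun v => Set.range (g v).left.base)
    (fun v => (g v).left.isOpenMap.isOpen_range) fun v _ => Set.mem_iUnion.2 ⟨v, hvW v⟩
  have hex : ∀ p : K × K, ∃ (Q : (D.obj j).Etale) (q₁ : Q ⟶ W p.1.1) (q₂ : Q ⟶ W p.2.1),
      IsPullback q₁.left q₂.left (g p.1.1).left (g p.2.1).left ∧ CompactSpace Q.left ∧
        q₁ ≫ g p.1.1 = q₂ ≫ g p.2.1 := by
    intro p
    haveI : Etale (W p.1.1).hom := (W p.1.1).prop
    refine ⟨MorphismProperty.Over.mk ⊤ (pullback.fst (g p.1.1).left (g p.2.1).left ≫ (W p.1.1).hom)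
        (inferInstanceAs (Etale _)), MorphismProperty.Over.homMk (pullback.fst _ _) rfl trivial,
      MorphismProperty.Over.homMk (pullback.snd _ _) ?_ trivial, IsPullback.of_hasPullback _ _,
      QuasiCompact.compactSpace_of_compactSpace (pullback.fst (g p.1.1).left (g p.2.1).left),
      MorphismProperty.Over.Hom.ext pullback.condition⟩
    refine (congrArg (pullback.snd _ _ ≫ ·) (MorphismProperty.Over.w (g p.2.1)).symm).trans ?_
    exact (pullback.condition_assoc _).symm.trans
      (congrArg (pullback.fst _ _ ≫ ·) (MorphismProperty.Over.w (g p.1.1)))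
  choose Q q₁ q₂ hQ hQc hQe using hex
  have hkill : ∀ p : K × K, ∃ (k : I) (b : k ⟶ j), P.obj.map (proj b (Q p)).op
      (P.obj.map ((incl j).map (q₁ p)).op (t p.1.1) - P.obj.map ((incl j).map (q₂ p)).op (t p.2.1)) = 0 := by
    intro p
    haveI := hQc p
    refine sect_zero c P hc (Q p) _ ?_
    rw [map_sub, sub_eq_zero, ← toLim_naturality c P ((incl j).map (q₁ p)) (t p.1.1),
      ← toLim_naturality c P ((incl j).map (q₂ p)) (t p.2.1)]
    refine (congrArg (L.obj.map ((toCone c).map ((incl j).map (q₁ p))).op) (ht p.1.1).symm).trans ?_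
    refine Eq.trans ?_ (congrArg (L.obj.map ((toCone c).map ((incl j).map (q₂ p))).op) (ht p.2.1))
    refine map_eq_map L.obj _ _ _ _ ?_ σ
    rw [← Functor.map_comp, ← Functor.map_comp, ← Category.assoc, ← Category.assoc,
      ← Functor.map_comp, ← Functor.map_comp, hQe p]
  choose kk bb hkk using hkill
  obtain ⟨k, b, f, hf⟩ := exists_common kk bb
  let F := (res D k).obj P
  let Vb := (EtCoh.bc (D.map b)).obj Va
  let Y : K → (D.obj k).Etale := fun p => (EtCoh.bc (D.map b)).obj (W p.1)
  let π : ∀ p : K, Y p ⟶ Vb := fun p => (EtCoh.bc (D.map b)).map (g p.1)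
  let r : ∀ p : K, EtCoh.sect F (Y p) := fun p => P.obj.map (proj b (W p.1)).op (t p.1)
  have hrange : ∀ v : Vb.left, ∃ p : K, v ∈ Set.range (π p).left.base := by
    intro v
    obtain ⟨p, hp, hv⟩ := Set.mem_iUnion₂.1 (hK (Set.mem_univ ((pullback.fst Va.hom (D.map b)).base v)))
    exact ⟨⟨p, hp⟩, mem_range_bc_map _ _ v hv⟩
  have hmem : Sieve.generate (Presieve.ofArrows Y π) ∈ (D.obj k).smallEtaleTopology Vb := by
    refine mem_topology_of_forall_point _ fun v => ?_
    obtain ⟨p, w, hw⟩ := hrange v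
    exact ⟨Y p, π p, w, Sieve.le_generate _ _ _ (Presieve.ofArrows.mk p), hw⟩
  have hsh := (Presieve.isSheafFor_iff_generate _).2 ((isSheaf_iff_isSheaf_of_type _ _).1
    ((sheafCompose (D.obj k).smallEtaleTopology (CategoryTheory.forget AddCommGrpCat.{u + 1})).obj F).2
      _ hmem)
  obtain ⟨T, hT, -⟩ := (Presieve.isSheafFor_arrows_iff _ π).1 hsh r (by
    intro p q Z α β e
    obtain ⟨e₁, he₁, he₂⟩ : ∃ e₁ : Z.left ⟶ (Q (p, q)).left,
        e₁ ≫ (q₁ (p, q)).left = α.left ≫ pullback.fst (W p.1).hom (D.map b) ∧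
        e₁ ≫ (q₂ (p, q)).left = β.left ≫ pullback.fst (W q.1).hom (D.map b) := by
      refine ⟨(hQ (p, q)).lift (α.left ≫ pullback.fst (W p.1).hom (D.map b))
        (β.left ≫ pullback.fst (W q.1).hom (D.map b)) ?_, IsPullback.lift_fst _ _ _ _,
        IsPullback.lift_snd _ _ _ _⟩
      refine (Category.assoc _ _ _).trans ((congrArg (α.left ≫ ·) (bc_map_fst _ (g p.1)).symm).trans ?_)
      refine Eq.trans ?_ ((congrArg (β.left ≫ ·) (bc_map_fst _ (g q.1))).trans (Category.assoc _ _ _).symm)
      exact (Category.assoc _ _ _).symm.trans ((congrArg (fun z : Z ⟶ Vb => z.left ≫ _) e).trans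
        (Category.assoc _ _ _))
    have hw : e₁ ≫ (Q (p, q)).hom = Z.hom ≫ D.map b := by
      refine (congrArg (e₁ ≫ ·) (MorphismProperty.Over.w (q₁ (p, q))).symm).trans ?_
      refine (Category.assoc _ _ _).symm.trans ((congrArg (· ≫ (W p.1).hom) he₁).trans ?_)
      refine ((Category.assoc _ _ _).trans (congrArg (α.left ≫ ·) pullback.condition)).trans ?_
      exact (Category.assoc _ _ _).symm.trans (congrArg (· ≫ D.map b) (MorphismProperty.Over.w α))
    let N : (incl k).obj Z ⟶ (incl j).obj (Q (p, q)) := ⟨b, e₁, hw⟩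
    have hN₁ : (incl k).map α ≫ proj b (W p.1) = N ≫ (incl j).map (q₁ (p, q)) :=
      Tot.hom_ext ((Category.id_comp _).trans (Category.comp_id _).symm) he₁.symm
    have hN₂ : (incl k).map β ≫ proj b (W q.1) = N ≫ (incl j).map (q₂ (p, q)) :=
      Tot.hom_ext ((Category.id_comp _).trans (Category.comp_id _).symm) he₂.symm
    show P.obj.map ((incl k).map α).op (P.obj.map (proj b (W p.1)).op (t p.1)) =
      P.obj.map ((incl k).map β).op (P.obj.map (proj b (W q.1)).op (t q.1))
    refine (map_eq_map P.obj _ _ _ _ hN₁ (t p.1)).trans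
      (Eq.trans ?_ (map_eq_map P.obj _ _ _ _ hN₂ (t q.1)).symm)
    rw [← sub_eq_zero, ← map_sub, ← fibPart_proj N, op_comp, Functor.map_comp_apply,
      show proj N.base (Q (p, q)) = stageMap (f (p, q)) (hf (p, q)) (Q (p, q)) ≫ proj (bb (p, q)) (Q (p, q))
        from (stageMap_proj _ _ _).symm, op_comp, Functor.map_comp_apply, hkk, map_zero, map_zero])
  have hlim : L.obj.map ((toCone c).map (proj b Va ≫ proj a U)).op σ = toLim c P k Vb T := by
    rw [← sub_eq_zero]
    refine sect_eq_zero_of_local L _ fun x => ?_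
    obtain ⟨p, hp⟩ := hrange ((pullback.fst Vb.hom (c.π.app k)).base x)
    refine ⟨_, (toCone c).map ((incl k).map (π p)), ?_, ?_⟩
    · rw [toCone_incl_map]
      exact mem_range_bc_map _ _ x hp
    · rw [map_sub, sub_eq_zero, toLim_naturality c P ((incl k).map (π p)) T,
        show P.obj.map ((incl k).map (π p)).op T = r p from hT p,
        ← toLim_naturality c P (proj b (W p.1)) (t p.1)]
      refine Eq.trans ?_ (congrArg (L.obj.map ((toCone c).map (proj b (W p.1))).op) (ht p.1))
      refine map_eq_map L.obj _ _ _ _ ?_ σ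
      rw [← Functor.map_comp, ← Functor.map_comp, ← Category.assoc, proj_naturality, Category.assoc]
  let J := stageMap (a := a) b rfl U
  refine ⟨k, b ≫ a, ?_⟩
  have hJ : proj (b ≫ a) U = (incl k).map (fibPart J) ≫ (proj b Va ≫ proj a U) := by
    rw [← Category.assoc, show (incl k).map (fibPart J) ≫ proj b Va = J from fibPart_proj J, stageMap_proj]
  rw [hJ]
  exact fromStage_comp c P σ _ _ ⟨T, hlim⟩

end Groth.Agent.H1Lim
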