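import Groth.Agent.H18Et.Coh.Colimit
import Groth.Prelude.Def_EtCore

/-!
# Pullback on cohomology, stated for `Sheaf.H`

`EtCoh.H` and `Sheaf.H` are equal, but the kernel needs seconds for each comparison, so the library
states everything with `Sheaf.H`.
-/

set_option autoImplicit false
set_option backward.isDefEq.respectTransparency false
set_option backward.isDefEq.respectTransparency.types false

universe u

open CategoryTheory CategoryTheory.Limits AlgebraicGeometry Opposite Abelian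

namespace Groth.Agent.H1Lim

variable {X Y : Scheme.{u}}

/-- Pullback on cohomology. -/
noncomputable def hpull (f : X ⟶ Y) [PreservesFiniteLimits (EtCoh.pull f)] (G : EtCoh.Ab Y) (n : ℕ) :
    Sheaf.H G n →+ Sheaf.H ((EtCoh.pull f).obj G) n :=
  EtCore.Hpull f G n

theorem Hpull_eq (f : X ⟶ Y) [PreservesFiniteLimits (EtCoh.pull f)] (G : EtCoh.Ab Y) (n : ℕ)
    (y : EtCoh.H Y G n) : EtCore.Hpull f G n y = hpull f G n y := rfl

theorem hpull_def (f : X ⟶ Y) [PreservesFiniteLimits (EtCoh.pull f)] (G : EtCoh.Ab Y) (n : ℕ)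
    (y : Sheaf.H G n) :
    hpull f G n y =
      (Ext.mk₀ (EtCore.pullConst f ℤ).inv).comp (y.mapExactFunctor (EtCoh.pull f)) (zero_add n) := rfl

theorem H_map_comp₀ {F G K : EtCoh.Ab X} (φ : F ⟶ G) (ψ : G ⟶ K) {n : ℕ} (x : Sheaf.H F n) :
    Sheaf.H.map (φ ≫ ψ) n x = Sheaf.H.map ψ n (Sheaf.H.map φ n x) :=
  Eq.symm <| by
    rw [Sheaf.H.map_apply, Sheaf.H.map_apply, Sheaf.H.map_apply,
      Abelian.Ext.comp_assoc_of_second_deg_zero, Abelian.Ext.mk₀_comp_mk₀]

end Groth.Agent.H1Lim
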