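import Groth.Agent.H18Et.Coh.Colimit
import Groth.Agent.H1Lim.HBase

/-!
# Pullback of cohomology classes followed by a natural coefficient map
-/

set_option autoImplicit false
set_option backward.isDefEq.respectTransparency false
set_option backward.isDefEq.respectTransparency.types false

universe u v w

open CategoryTheory CategoryTheory.Limits AlgebraicGeometry Opposite Abelian

namespace Groth.Agent.H1Lim

variable {X Y : Scheme.{u}} (f : X ⟶ Y) [PreservesFiniteLimits (EtCoh.pull f)]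

section Gen

variable {X' Y' : Scheme.{u}} (Φ : EtCoh.Ab Y' ⥤ EtCoh.Ab X') [Φ.Additive] [PreservesFiniteLimits Φ]
  [PreservesFiniteColimits Φ] (κ : (constantSheaf X'.smallEtaleTopology AddCommGrpCat.{u + 1}).obj (AddCommGrpCat.of (ULift ℤ)) ⟶
    Φ.obj ((constantSheaf Y'.smallEtaleTopology AddCommGrpCat.{u + 1}).obj (AddCommGrpCat.of (ULift ℤ))))

theorem gen_map {F G : EtCoh.Ab Y'} (g : F ⟶ G) (n : ℕ) (y : Sheaf.H F n) :
    (Ext.mk₀ κ).comp ((Sheaf.H.map g n y).mapExactFunctor Φ) (zero_add n) =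
      Sheaf.H.map (Φ.map g) n ((Ext.mk₀ κ).comp (y.mapExactFunctor Φ) (zero_add n)) := by
  rw [Sheaf.H.map_apply, Sheaf.H.map_apply]
  rw [Ext.mapExactFunctor_comp, Ext.mapExactFunctor_mk₀, ← Ext.comp_assoc_of_third_deg_zero]

theorem gen_extClass {S : ShortComplex (EtCoh.Ab Y')} (hS : S.ShortExact) (n : ℕ)
    (y : Sheaf.H S.X₃ n) :
    (Ext.mk₀ κ).comp ((y.comp hS.extClass rfl).mapExactFunctor Φ) (zero_add (n + 1)) =
      Ext.comp ((Ext.mk₀ κ).comp (y.mapExactFunctor Φ) (zero_add n))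
        (hS.map_of_exact Φ).extClass rfl := by
  rw [Ext.mapExactFunctor_comp, Ext.mapExactFunctor_extClass]
  exact (Ext.comp_assoc _ _ _ (zero_add n) rfl (by omega)).symm

end Gen

theorem Hpull_map {F G : EtCoh.Ab Y} (g : F ⟶ G) (n : ℕ) (y : Sheaf.H F n) :
    hpull f G n (Sheaf.H.map g n y) =
      Sheaf.H.map ((EtCoh.pull f).map g) n (hpull f F n y) :=
  (hpull_def f G n _).trans ((gen_map (EtCoh.pull f) _ g n y).trans
    (congrArg (Sheaf.H.map ((EtCoh.pull f).map g) n) (hpull_def f F n y)).symm)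

theorem Hpull_extClass {S : ShortComplex (EtCoh.Ab Y)} (hS : S.ShortExact) (n : ℕ)
    (y : Sheaf.H S.X₃ n) :
    hpull f S.X₁ (n + 1) (y.comp hS.extClass rfl) =
      Ext.comp (hpull f S.X₃ n y) (hS.map_of_exact (EtCoh.pull f)).extClass rfl :=
  (hpull_def f S.X₁ (n + 1) _).trans ((gen_extClass (EtCoh.pull f) _ hS n y).trans
    (congrArg (fun z => Ext.comp z (hS.map_of_exact (EtCoh.pull f)).extClass rfl) (hpull_def f S.X₃ n y)).symm)

variable {A : Type w} [Category.{v} A] [Abelian A] (R : A ⥤ EtCoh.Ab Y) (T : A ⥤ EtCoh.Ab X)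
  (φ : R ⋙ EtCoh.pull f ⟶ T)

/-- Pull back a class and map the coefficients. -/
noncomputable def natPull (S : A) (n : ℕ) : Sheaf.H (R.obj S) n →+ Sheaf.H (T.obj S) n :=
  (Sheaf.H.map (φ.app S) n).comp (hpull f (R.obj S) n)

theorem natPull_map {S S' : A} (g : S ⟶ S') (n : ℕ) (y : Sheaf.H (R.obj S) n) :
    natPull f R T φ S' n (Sheaf.H.map (R.map g) n y) = Sheaf.H.map (T.map g) n (natPull f R T φ S n y) := by
  show Sheaf.H.map _ n (hpull f _ n _) = Sheaf.H.map _ n (Sheaf.H.map _ n (hpull f _ n y))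
  rw [Hpull_map, ← H_map_comp₀, ← H_map_comp₀]
  exact congrArg (fun m => Sheaf.H.map m n (hpull f (R.obj S) n y)) (φ.naturality g)

variable [PreservesFiniteLimits R] [PreservesFiniteColimits R] [R.Additive]
  [PreservesFiniteLimits T] [PreservesFiniteColimits T] [T.Additive]

theorem natPull_extClass {S : ShortComplex A} (hS : S.ShortExact) (n : ℕ)
    (y : Sheaf.H (R.obj S.X₃) n) :
    natPull f R T φ S.X₁ (n + 1) (Ext.comp y (hS.map_of_exact R).extClass rfl) =
      Ext.comp (natPull f R T φ S.X₃ n y) (hS.map_of_exact T).extClass rfl := by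
  show Sheaf.H.map _ (n + 1) (hpull f _ (n + 1) _) =
    Ext.comp (Sheaf.H.map _ n (hpull f _ n y)) _ rfl
  refine (congrArg (Sheaf.H.map (φ.app S.X₁) (n + 1))
    (Hpull_extClass f (hS.map_of_exact R) n y)).trans ?_
  let h₁ := (hS.map_of_exact R).map_of_exact (EtCoh.pull f)
  let m : (S.map R).map (EtCoh.pull f) ⟶ S.map T :=
    ShortComplex.homMk (φ.app S.X₁) (φ.app S.X₂) (φ.app S.X₃) (φ.naturality S.f).symm (φ.naturality S.g).symm
  show (Ext.comp (hpull f _ n y) h₁.extClass rfl).comp (Ext.mk₀ m.τ₁) (add_zero _) =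
    Ext.comp ((hpull f _ n y).comp (Ext.mk₀ m.τ₃) (add_zero n)) (hS.map_of_exact T).extClass rfl
  rw [Ext.comp_assoc_of_third_deg_zero, ShortComplex.ShortExact.extClass_naturality h₁ (hS.map_of_exact T) m,
    Ext.comp_assoc_of_second_deg_zero]

end Groth.Agent.H1Lim
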