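import Groth.Agent.H1Lim.Sections
import Groth.Agent.H18Et.Coh.QCAcyclic
import Groth.Agent.H18Et.StalkSets

/-!
# Čech acyclicity of the limit of a system of injective sheaves, at finite stages
-/

set_option autoImplicit false
set_option backward.isDefEq.respectTransparency false
set_option backward.isDefEq.respectTransparency.types false

universe u w

open CategoryTheory CategoryTheory.Limits AlgebraicGeometry Opposite

namespace Groth.Agent.H1Lim

open scoped Groth.Agent.H18Et Groth.Agent.H18Et.CohColim
open Groth.Agent.H18Et Groth.Agent.H18Et.QCAc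

section General

variable {X : Scheme.{u}}

open Groth.Agent.H18Cech in
/-- A sheaf with the sections of a filtered colimit of Čech acyclic sheaves on qcqs objects is Čech acyclic. -/
theorem isQCAcyclic_of_sections {J : Type w} [SmallCategory J] [IsFiltered J]
    {D : J ⥤ EtCoh.Ab X} {c : Cocone D} (hD : ∀ j, IsQCAcyclic (D.obj j))
    (hsurj : ∀ (U : X.Etale) [CompactSpace U.left] [QuasiSeparatedSpace U.left] (s : EtCoh.sect c.pt U),
      ∃ (j : J) (t : EtCoh.sect (D.obj j) U), (c.ι.app j).hom.app (op U) t = s)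
    (hinj : ∀ (U : X.Etale) [CompactSpace U.left] [QuasiSeparatedSpace U.left] (j : J)
      (t : EtCoh.sect (D.obj j) U), (c.ι.app j).hom.app (op U) t = 0 →
        ∃ (k : J) (f : j ⟶ k), (D.map f).hom.app (op U) t = 0) :
    IsQCAcyclic c.pt := by
  classical
  intro U _ ι _ Y hU hY p
  haveI := Fintype.ofFinite ι
  refine isZero_cechH_succ Y c.pt.obj fun x hx => ?_
  have hcq : ∀ (m : ℕ) (a : Fin (m + 1) → ι), CompactSpace (∏ᶜ (Y ∘ a)).left.left ∧
      QuasiSeparatedSpace (∏ᶜ (Y ∘ a)).left.left := qcqs_prod Y hU hY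
  choose j t ht using fun a : Fin (p + 1 + 1) → ι =>
    haveI := (hcq _ a).1
    haveI := (hcq _ a).2
    hsurj (∏ᶜ (Y ∘ a)).left ((Pi.π (val Y c.pt.obj (p + 1)) a).hom x)
  obtain ⟨j₀, hj₀⟩ := IsFiltered.sup_objs_exists (Finset.univ.image j)
  let g : ∀ a, j a ⟶ j₀ := fun a => (hj₀ (Finset.mem_image_of_mem j (Finset.mem_univ a))).some
  let x₀ : C' Y (D.obj j₀).obj (p + 1) :=
    (Concrete.productEquiv (val Y (D.obj j₀).obj (p + 1))).symm fun a => (D.map (g a)).hom.app _ (t a)
  have hx₀ : (mapC Y (c.ι.app j₀).hom (p + 1)).hom x₀ = x := by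
    apply (Concrete.productEquiv (val Y c.pt.obj (p + 1))).injective
    funext a
    rw [Concrete.productEquiv_apply_apply, Concrete.productEquiv_apply_apply]
    refine (π_mapC Y (c.ι.app j₀).hom x₀ a).trans ?_
    refine (congrArg _ (Concrete.productEquiv_symm_apply_π (val Y (D.obj j₀).obj (p + 1)) _ a)).trans ?_
    exact (ConcreteCategory.congr_hom
      (congrArg (fun φ : D.obj (j a) ⟶ c.pt => φ.hom.app (op (∏ᶜ (Y ∘ a)).left)) (c.w (g a))) (t a)).trans
      (ht a)
  have hmd : ∀ {A B : EtCoh.Ab X} (φ : A ⟶ B) (n : ℕ) (y : C' Y A.obj n),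
      (mapC Y φ.hom (n + 1)).hom ((d Y A.obj n).hom y) = (d Y B.obj n).hom ((mapC Y φ.hom n).hom y) :=
    fun φ n y => (ConcreteCategory.congr_hom
      (((cechComplexFunctor Y).map (Functor.whiskerLeft (Over.forget U).op φ.hom)).comm n (n + 1)) y).symm
  have hex : ∀ a : Fin (p + 1 + 1 + 1) → ι, ∃ (k : J) (f : j₀ ⟶ k), (D.map f).hom.app _
      ((Pi.π (val Y (D.obj j₀).obj (p + 1 + 1)) a).hom ((d Y (D.obj j₀).obj (p + 1)).hom x₀)) = 0 := fun a => by
    haveI := (hcq _ a).1
    haveI := (hcq _ a).2
    refine hinj (∏ᶜ (Y ∘ a)).left j₀ _ ?_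
    refine (π_mapC Y (c.ι.app j₀).hom _ a).symm.trans ?_
    exact (congrArg (Pi.π (val Y c.pt.obj (p + 1 + 1)) a).hom ((hmd (B := c.pt) (c.ι.app j₀) _ x₀).trans
      ((congrArg (d Y c.pt.obj (p + 1)).hom hx₀).trans hx))).trans (map_zero _)
  obtain ⟨k, f, hf⟩ := Cons.exists_common_stage _ hex fun a k l f g e => by
    rw [D.map_comp]
    exact (congrArg ((D.map g).hom.app _) e).trans (map_zero _)
  have hdk : (d Y (D.obj k).obj (p + 1)).hom ((mapC Y (D.map f).hom (p + 1)).hom x₀) = 0 := by
    rw [← hmd (D.map f)]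
    apply (Concrete.productEquiv (val Y (D.obj k).obj (p + 1 + 1))).injective
    funext a
    rw [Concrete.productEquiv_apply_apply, Concrete.productEquiv_apply_apply, map_zero]
    exact (π_mapC Y (D.map f).hom _ a).trans (hf a)
  obtain ⟨y, hy⟩ := exists_of_isZero_cechH_succ Y (D.obj k).obj (hD k U ι Y hU hY p) _ hdk
  refine ⟨(mapC Y (c.ι.app k).hom p).hom y, ?_⟩
  refine ((hmd (B := c.pt) (c.ι.app k) p y).symm.trans (congrArg _ hy)).trans ?_
  refine Eq.trans ?_ hx₀
  apply (Concrete.productEquiv (val Y c.pt.obj (p + 1))).injective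
  funext a
  rw [Concrete.productEquiv_apply_apply, Concrete.productEquiv_apply_apply]
  refine (π_mapC Y (c.ι.app k).hom _ a).trans ((congrArg _ (π_mapC Y (D.map f).hom x₀ a)).trans ?_)
  exact (ConcreteCategory.congr_hom
      (congrArg (fun φ : D.obj j₀ ⟶ c.pt => φ.hom.app (op (∏ᶜ (Y ∘ a)).left)) (c.w f)) _).trans
    (π_mapC Y (c.ι.app j₀).hom x₀ a).symm

end General

variable {I : Type u} [SmallCategory I] {D : I ⥤ Scheme.{u}} (c : Cone D) (P : Sys D)

theorem stageMap_naturality {i j k : I} {a : j ⟶ i} {b : k ⟶ i} (f : k ⟶ j) (hb : f ≫ a = b)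
    {V U : (D.obj i).Etale} (g : V ⟶ U) :
    (incl k).map ((EtCoh.bc (D.map b)).map g) ≫ stageMap f hb U =
      stageMap f hb V ≫ (incl j).map ((EtCoh.bc (D.map a)).map g) := by
  refine Tot.hom_ext ((Category.id_comp _).trans (Category.comp_id _).symm) (pullback.hom_ext ?_ ?_)
  · exact congrArg (fun z => TotHom.top z)
      (show ((incl k).map ((EtCoh.bc (D.map b)).map g) ≫ stageMap f hb U) ≫ proj a U =
        (stageMap f hb V ≫ (incl j).map ((EtCoh.bc (D.map a)).map g)) ≫ proj a U by
        rw [Category.assoc, stageMap_proj, proj_naturality, Category.assoc, proj_naturality,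
          ← Category.assoc, stageMap_proj])
  · refine ((Category.assoc _ _ _).trans (congrArg (_ ≫ ·) (pullback.lift_snd _ _ _))).trans ?_
    refine ((Category.assoc _ _ _).symm.trans (congrArg (· ≫ D.map f) (bc_map_snd _ g))).trans ?_
    refine Eq.trans ?_ ((Category.assoc _ _ _).trans (congrArg (_ ≫ ·) (bc_map_snd _ g))).symm
    exact (pullback.lift_snd _ _ _).symm

variable {i : I}

/-- The direct images of the members over `i`. -/
noncomputable def stages : (Over i)ᵒᵖ ⥤ EtCoh.Ab (D.obj i) where
  obj j := (EtCoh.push (D.map j.unop.hom)).obj ((res D j.unop.left).obj P)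
  map {j j'} f := ⟨{ app := fun U => P.obj.map (stageMap f.unop.left (Over.w f.unop) U.unop).op
                     naturality := fun U V g => by
                      ext s
                      exact map_eq_map P.obj _ _ _ _
                        (stageMap_naturality f.unop.left (Over.w f.unop) g.unop).symm s }⟩
  map_id j := by
    ext U s
    refine (congrArg (fun z => P.obj.map (Quiver.Hom.op z) s)
      (?_ : stageMap (a := j.unop.hom) (b := j.unop.hom) (𝟙 j.unop.left) (Category.id_comp _) U.unop = 𝟙 _)).trans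
      (Functor.map_id_apply P.obj _ s)
    refine Tot.hom_ext rfl ?_
    exact pullback.hom_ext
      ((pullback.lift_fst _ _ _).trans ((Category.comp_id _).trans (Category.id_comp _).symm))
      ((pullback.lift_snd _ _ _).trans ((congrArg (_ ≫ ·) (D.map_id _)).trans
        ((Category.comp_id _).trans (Category.id_comp _).symm)))
  map_comp {j j' j''} f g := by
    ext U s
    refine (congrArg (fun z => P.obj.map (Quiver.Hom.op z) s)
      (?_ : stageMap (f ≫ g).unop.left (Over.w (f ≫ g).unop) U.unop =
        stageMap g.unop.left (Over.w g.unop) U.unop ≫ stageMap f.unop.left (Over.w f.unop) U.unop)).trans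
      (Functor.map_comp_apply P.obj _ _ s)
    refine Tot.hom_ext rfl (pullback.hom_ext ?_ ?_)
    · refine (pullback.lift_fst _ _ _).trans ?_
      refine Eq.trans ?_ ((Category.assoc _ _ _).trans (congrArg (_ ≫ ·) (pullback.lift_fst _ _ _))).symm
      exact ((congrArg (_ ≫ ·) (Category.comp_id _)).trans (pullback.lift_fst _ _ _)).symm
    · refine (pullback.lift_snd _ _ _).trans ?_
      refine Eq.trans ?_ ((Category.assoc _ _ _).trans (congrArg (_ ≫ ·) (pullback.lift_snd _ _ _))).symm
      refine Eq.trans ?_ ((congrArg (· ≫ _) (pullback.lift_snd _ _ _)).symm.trans (Category.assoc _ _ _))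
      exact (congrArg (_ ≫ ·) (D.map_comp g.unop.left f.unop.left)).trans (Category.assoc _ _ _).symm

variable [IsCofiltered I]

/-- The comparison with the direct image of the limit sheaf. -/
noncomputable def stagesCocone : Cocone (stages P (i := i)) where
  pt := (EtCoh.push (c.π.app i)).obj ((limSheaf c).obj P)
  ι :=
  { app := fun j => ⟨{
      app := fun U => toLim c P j.unop.left ((EtCoh.bc (D.map j.unop.hom)).obj U.unop) ≫
        ((limSheaf c).obj P).obj.map (projInv c j.unop.hom U.unop).op
      naturality := fun U V g => by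
        ext s
        let W' := (EtCoh.bc (D.map j.unop.hom)).map g.unop
        refine (congrArg (((limSheaf c).obj P).obj.map (projInv c j.unop.hom V.unop).op)
          (toLim_naturality c P ((incl j.unop.left).map W') s).symm).trans ?_
        exact map_eq_map ((limSheaf c).obj P).obj _ _ _ _ (projInv_naturality c j.unop.hom g.unop)
          (toLim c P j.unop.left _ s) }⟩
    naturality := fun j j' f => by
      ext U s
      let m := stageMap f.unop.left (Over.w f.unop) U.unop
      refine (congrArg (((limSheaf c).obj P).obj.map (projInv c j'.unop.hom U.unop).op)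
        (toLim_naturality c P m s).symm).trans ?_
      refine (Functor.map_comp_apply _ _ _ _).symm.trans ?_
      refine congrArg (fun z => ((limSheaf c).obj P).obj.map z (toLim c P j.unop.left _ s))
        (congrArg Quiver.Hom.op (?_ : projInv c j'.unop.hom U.unop ≫ (toCone c).map m =
          projInv c j.unop.hom U.unop))
      rw [← cancel_mono ((toCone c).map (proj j.unop.hom U.unop)), Category.assoc, ← Functor.map_comp,
        stageMap_proj, projInv_comp, projInv_comp] }

variable (hc : IsLimit c) [∀ ⦃a b : I⦄ (f : a ⟶ b), IsAffineHom (D.map f)]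
  [∀ a, CompactSpace (D.obj a)] [∀ a, QuasiSeparatedSpace (D.obj a)]

include hc in
/-- The direct image to a stage of the limit of injective sheaves is Čech acyclic. -/
theorem isQCAcyclic_push (hP : ∀ k, Injective ((res D k).obj P)) :
    IsQCAcyclic ((EtCoh.push (c.π.app i)).obj ((limSheaf c).obj P)) := by
  haveI : ∀ (p q : I) (f : p ⟶ q), IsAffineHom (D.map f) := fun p q f => inferInstance
  refine isQCAcyclic_of_sections (c := stagesCocone c P (i := i)) (fun j => ?_)
    (fun U _ _ σ => ?_) (fun U _ _ j t ht => ?_)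
  · haveI := hP j.unop.left
    haveI : Injective ((stages P (i := i)).obj j) :=
      Injective.injective_of_adjoint (EtCoh.pullPushAdj (D.map j.unop.hom)) ((res D j.unop.left).obj P)
    exact isQCAcyclic_of_injective _
  · obtain ⟨l, a, t, ht⟩ := sect_surj c P hc U σ
    refine ⟨op (Over.mk a), t, ?_⟩
    refine (congrArg (((limSheaf c).obj P).obj.map (projInv c a U).op) ht.symm).trans ?_
    refine (Functor.map_comp_apply _ _ _ _).symm.trans ?_
    exact (congrArg (fun z => ((limSheaf c).obj P).obj.map (Quiver.Hom.op z) σ) (projInv_comp c a U)).trans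
      (Functor.map_id_apply ((limSheaf c).obj P).obj (op ((toCone c).obj ((incl i).obj U))) σ)
  · let a := j.unop.hom
    let Va := (EtCoh.bc (D.map a)).obj U
    haveI : CompactSpace Va.left :=
      @H7Lim.compactSpace_pbDiagram_obj I _ D i U.left U.hom (fun p r f => inferInstance) ‹_› j.unop
    haveI : IsIso (projInv c a U) := IsIso.of_isIso_fac_right (h := 𝟙 _) (projInv_comp c a U)
    have h0 : toLim c P j.unop.left Va t = 0 :=
      (ConcreteCategory.bijective_of_isIso (((limSheaf c).obj P).obj.map (projInv c a U).op)).1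
        (ht.trans (map_zero _).symm)
    obtain ⟨l, b, hb⟩ := sect_zero c P hc Va t h0
    let f : Over.mk (b ≫ a) ⟶ j.unop := Over.homMk b rfl
    refine ⟨op (Over.mk (b ≫ a)), f.op, ?_⟩
    let J := stageMap (a := a) b rfl U
    show P.obj.map J.op t = 0
    rw [show J = (incl l).map (fibPart J) ≫ proj b Va from (fibPart_proj J).symm, op_comp,
      Functor.map_comp_apply]
    exact (congrArg (P.obj.map ((incl l).map (fibPart J)).op) hb).trans (map_zero _)

end Groth.Agent.H1Lim
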