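import Groth.Prelude.Def_EtBase

/-!
# The total category of the small étale sites of a diagram of schemes
-/

set_option autoImplicit false
set_option backward.isDefEq.respectTransparency false
set_option backward.isDefEq.respectTransparency.types false

universe u

open CategoryTheory CategoryTheory.Limits AlgebraicGeometry Opposite

namespace Groth.Agent.H1Lim

variable {I : Type u} [SmallCategory I] (D : I ⥤ Scheme.{u})

/-- An étale scheme over some member of the diagram. -/
structure Tot where
  /-- The index. -/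
  idx : I
  /-- The étale scheme. -/
  U : (D.obj idx).Etale

variable {D}

/-- Morphisms over the transition maps. -/
@[ext]
structure TotHom (A B : Tot D) where
  /-- The morphism of indices. -/
  base : A.idx ⟶ B.idx
  /-- The morphism of schemes. -/
  top : A.U.left ⟶ B.U.left
  w : top ≫ B.U.hom = A.U.hom ≫ D.map base

instance : Category (Tot D) where
  Hom := TotHom
  id A := ⟨𝟙 _, 𝟙 _, by simp⟩
  comp f g := ⟨f.base ≫ g.base, f.top ≫ g.top, by
    rw [Category.assoc, g.w, ← Category.assoc, f.w, Category.assoc, ← D.map_comp]⟩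
  id_comp f := by ext <;> simp
  comp_id f := by ext <;> simp
  assoc f g h := by ext <;> simp

@[ext]
theorem Tot.hom_ext {A B : Tot D} {f g : A ⟶ B} (h₁ : f.base = g.base) (h₂ : f.top = g.top) : f = g :=
  TotHom.ext h₁ h₂

@[simp] theorem comp_base {A B E : Tot D} (f : A ⟶ B) (g : B ⟶ E) : (f ≫ g).base = f.base ≫ g.base := rfl
@[simp] theorem comp_top {A B E : Tot D} (f : A ⟶ B) (g : B ⟶ E) : (f ≫ g).top = f.top ≫ g.top := rfl
@[simp] theorem id_base (A : Tot D) : TotHom.base (𝟙 A) = 𝟙 _ := rfl
@[simp] theorem id_top (A : Tot D) : TotHom.top (𝟙 A) = 𝟙 _ := rfl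

/-- The inclusion of a fibre. -/
def incl (i : I) : (D.obj i).Etale ⥤ Tot D where
  obj U := ⟨i, U⟩
  map {V U} g := ⟨𝟙 i, g.left, (MorphismProperty.Over.w g).trans
    ((Category.comp_id _).symm.trans (congrArg _ (D.map_id i).symm))⟩
  map_id U := Tot.hom_ext rfl rfl
  map_comp f g := Tot.hom_ext (Category.id_comp _).symm rfl

@[simp] theorem incl_map_base (i : I) {V U : (D.obj i).Etale} (g : V ⟶ U) :
    ((incl i).map g).base = 𝟙 i := rfl
@[simp] theorem incl_map_top (i : I) {V U : (D.obj i).Etale} (g : V ⟶ U) :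
    ((incl i).map g).top = g.left := rfl

/-- Base change of `U` along a transition map. -/
noncomputable abbrev bcObj {i k : I} (a : k ⟶ i) (U : (D.obj i).Etale) : Tot D :=
  (incl k).obj ((EtCoh.bc (D.map a)).obj U)

/-- The projection of a base change. -/
noncomputable def proj {i k : I} (a : k ⟶ i) (U : (D.obj i).Etale) : bcObj a U ⟶ (incl i).obj U :=
  ⟨a, pullback.fst U.hom (D.map a), pullback.condition⟩

@[simp] theorem proj_base {i k : I} (a : k ⟶ i) (U : (D.obj i).Etale) : (proj a U).base = a := rfl

@[simp] theorem proj_top {i k : I} (a : k ⟶ i) (U : (D.obj i).Etale) :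
    (proj a U).top = pullback.fst U.hom (D.map a) := rfl

theorem bc_map_fst {X Y : Scheme.{u}} (f : X ⟶ Y) {V U : Y.Etale} (g : V ⟶ U) :
    ((EtCoh.bc f).map g).left ≫ pullback.fst U.hom f = pullback.fst V.hom f ≫ g.left :=
  pullback.lift_fst _ _ _

theorem bc_map_snd {X Y : Scheme.{u}} (f : X ⟶ Y) {V U : Y.Etale} (g : V ⟶ U) :
    ((EtCoh.bc f).map g).left ≫ pullback.snd U.hom f = pullback.snd V.hom f :=
  pullback.lift_snd _ _ _

theorem proj_naturality {i k : I} (a : k ⟶ i) {V U : (D.obj i).Etale} (g : V ⟶ U) :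
    (incl k).map ((EtCoh.bc (D.map a)).map g) ≫ proj a U = proj a V ≫ (incl i).map g :=
  Tot.hom_ext (by
    show 𝟙 k ≫ a = a ≫ 𝟙 i
    rw [Category.id_comp, Category.comp_id]) (bc_map_fst (D.map a) g)

/-- The fibre part of a morphism. -/
noncomputable def fibPart {i k : I} {W : (D.obj k).Etale} {U : (D.obj i).Etale}
    (h : (incl k).obj W ⟶ (incl i).obj U) : W ⟶ (EtCoh.bc (D.map h.base)).obj U :=
  MorphismProperty.Over.homMk (pullback.lift h.top W.hom h.w) (pullback.lift_snd _ _ _) trivial

theorem fibPart_proj {i k : I} {W : (D.obj k).Etale} {U : (D.obj i).Etale}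
    (h : (incl k).obj W ⟶ (incl i).obj U) : (incl k).map (fibPart h) ≫ proj h.base U = h :=
  Tot.hom_ext (Category.id_comp _) (pullback.lift_fst _ _ _)

variable (c : Cone D)

/-- Base change of all fibres to the vertex of a cone. -/
noncomputable def toCone : Tot D ⥤ c.pt.Etale where
  obj A := (EtCoh.bc (c.π.app A.idx)).obj A.U
  map {A B} h := MorphismProperty.Over.homMk
    (pullback.lift (pullback.fst A.U.hom (c.π.app A.idx) ≫ h.top) (pullback.snd A.U.hom (c.π.app A.idx))
      (by rw [Category.assoc, h.w, pullback.condition_assoc, c.w]))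
    (pullback.lift_snd _ _ _) trivial
  map_id A := MorphismProperty.Over.Hom.ext <| pullback.hom_ext
    ((pullback.lift_fst _ _ _).trans ((Category.comp_id _).trans (Category.id_comp _).symm))
    ((pullback.lift_snd _ _ _).trans (Category.id_comp _).symm)
  map_comp {A B E} f g := MorphismProperty.Over.Hom.ext <| pullback.hom_ext
    (((pullback.lift_fst _ _ _).trans (Category.assoc _ _ _).symm).trans
      (Eq.trans (congrArg (· ≫ g.top) (pullback.lift_fst _ _ _).symm)
        (((Category.assoc _ _ _).trans (congrArg (_ ≫ ·) (pullback.lift_fst _ _ _).symm)).trans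
          (Category.assoc _ _ _).symm)))
    ((pullback.lift_snd _ _ _).trans
      (Eq.trans (pullback.lift_snd _ _ _).symm
        ((congrArg (_ ≫ ·) (pullback.lift_snd _ _ _).symm).trans (Category.assoc _ _ _).symm)))

theorem toCone_incl_map {i : I} {V U : (D.obj i).Etale} (g : V ⟶ U) :
    (toCone c).map ((incl i).map g) = (EtCoh.bc (c.π.app i)).map g :=
  MorphismProperty.Over.Hom.ext <| pullback.hom_ext
    ((pullback.lift_fst _ _ _).trans (bc_map_fst (c.π.app i) g).symm)
    ((pullback.lift_snd _ _ _).trans (bc_map_snd (c.π.app i) g).symm)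

theorem toCone_map_fst {A B : Tot D} (h : A ⟶ B) :
    ((toCone c).map h).left ≫ pullback.fst B.U.hom (c.π.app B.idx) =
      pullback.fst A.U.hom (c.π.app A.idx) ≫ h.top :=
  pullback.lift_fst _ _ _

theorem toCone_map_snd {A B : Tot D} (h : A ⟶ B) :
    ((toCone c).map h).left ≫ pullback.snd B.U.hom (c.π.app B.idx) =
      pullback.snd A.U.hom (c.π.app A.idx) :=
  pullback.lift_snd _ _ _

/-- Inverse of the base change of a projection. -/
noncomputable def projInv {i k : I} (a : k ⟶ i) (U : (D.obj i).Etale) :
    (toCone c).obj ((incl i).obj U) ⟶ (toCone c).obj (bcObj a U) :=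
  MorphismProperty.Over.homMk
    (pullback.lift
      (pullback.lift (pullback.fst U.hom (c.π.app i)) (pullback.snd U.hom (c.π.app i) ≫ c.π.app k)
        (by rw [Category.assoc, c.w, pullback.condition]))
      (pullback.snd U.hom (c.π.app i)) (pullback.lift_snd _ _ _))
    (pullback.lift_snd _ _ _) trivial

theorem projInv_comp {i k : I} (a : k ⟶ i) (U : (D.obj i).Etale) :
    projInv c a U ≫ (toCone c).map (proj a U) = 𝟙 _ :=
  MorphismProperty.Over.Hom.ext <| pullback.hom_ext
    (((Category.assoc _ _ _).trans (congrArg (_ ≫ ·) (toCone_map_fst c (proj a U)))).trans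
      (((Category.assoc _ _ _).symm.trans (congrArg (· ≫ _) (pullback.lift_fst _ _ _))).trans
        ((pullback.lift_fst _ _ _).trans (Category.id_comp _).symm)))
    (((Category.assoc _ _ _).trans (congrArg (_ ≫ ·) (toCone_map_snd c (proj a U)))).trans
      ((pullback.lift_snd _ _ _).trans (Category.id_comp _).symm))

instance isIso_toCone_proj {i k : I} (a : k ⟶ i) (U : (D.obj i).Etale) :
    IsIso ((toCone c).map (proj a U)) := by
  refine ⟨projInv c a U, MorphismProperty.Over.Hom.ext <| pullback.hom_ext (pullback.hom_ext ?_ ?_) ?_,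
    projInv_comp c a U⟩
  · refine ((congrArg (· ≫ _) ((Category.assoc _ _ _).trans
      (congrArg (_ ≫ ·) (pullback.lift_fst _ _ _)))).trans ?_).trans
      (congrArg (· ≫ _) (Category.id_comp _).symm)
    exact ((Category.assoc _ _ _).trans (congrArg (_ ≫ ·) (pullback.lift_fst _ _ _))).trans
      (toCone_map_fst c (proj a U))
  · refine ((congrArg (· ≫ _) ((Category.assoc _ _ _).trans
      (congrArg (_ ≫ ·) (pullback.lift_fst _ _ _)))).trans ?_).trans
      (congrArg (· ≫ _) (Category.id_comp _).symm)
    refine ((Category.assoc _ _ _).trans (congrArg (_ ≫ ·) (pullback.lift_snd _ _ _))).trans ?_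
    refine ((Category.assoc _ _ _).symm.trans (congrArg (· ≫ _) (toCone_map_snd c (proj a U)))).trans ?_
    exact pullback.condition.symm
  · exact (((Category.assoc _ _ _).trans (congrArg (_ ≫ ·) (pullback.lift_snd _ _ _))).trans
      (toCone_map_snd c (proj a U))).trans (Category.id_comp _).symm

theorem comp_projInv {A : c.pt.Etale} {i k : I} (a : k ⟶ i) (U : (D.obj i).Etale)
    (x : A ⟶ (toCone c).obj ((incl i).obj U)) (y : A ⟶ (toCone c).obj (bcObj a U))
    (h : y ≫ (toCone c).map (proj a U) = x) : x ≫ projInv c a U = y :=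
  (cancel_mono ((toCone c).map (proj a U))).1 (((Category.assoc _ _ _).trans
    ((congrArg (x ≫ ·) (projInv_comp c a U)).trans (Category.comp_id x))).trans h.symm)

theorem toCone_projInv {i k : I} {W : (D.obj k).Etale} {U : (D.obj i).Etale}
    (h : (incl k).obj W ⟶ (incl i).obj U) :
    (toCone c).map h ≫ projInv c h.base U = (toCone c).map ((incl k).map (fibPart h)) :=
  comp_projInv c h.base U _ _ (((toCone c).map_comp _ _).symm.trans
    (congrArg (fun z => (toCone c).map z) (fibPart_proj h)))

theorem projInv_naturality {i k : I} (a : k ⟶ i) {V U : (D.obj i).Etale} (g : V ⟶ U) :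
    projInv c a V ≫ (toCone c).map ((incl k).map ((EtCoh.bc (D.map a)).map g)) =
      (EtCoh.bc (c.π.app i)).map g ≫ projInv c a U := by
  refine (comp_projInv c a U ((EtCoh.bc (c.π.app i)).map g) _ ?_).symm
  refine ((Category.assoc _ _ _).trans (congrArg (projInv c a V ≫ ·)
    (((toCone c).map_comp _ _).symm.trans ((congrArg (fun z => (toCone c).map z)
      (proj_naturality a g)).trans ((toCone c).map_comp _ _))))).trans ?_
  exact ((Category.assoc _ _ _).symm.trans ((congrArg (· ≫ (toCone c).map ((incl i).map g))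
    (projInv_comp c a V)).trans (Category.id_comp _))).trans (toCone_incl_map c g)

end Groth.Agent.H1Lim
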