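import Groth.Agent.H18Cech.Lift

/-!
# Čech cohomology of isomorphic families
-/

set_option autoImplicit false
set_option backward.isDefEq.respectTransparency false

universe w v u

open CategoryTheory CategoryTheory.Limits Opposite

namespace Groth.Agent.H1Lim

open Groth.Agent.H18Cech

variable {C : Type u} [Category.{v} C] {U U' : C} [HasFiniteProducts (Over U)]
  [HasFiniteProducts (Over U')] {ι : Type w} (Y : ι → Over U) (Y' : ι → Over U')
  (e : U' ≅ U) (ψ : ∀ i, (Y' i).left ≅ (Y i).left) (h : ∀ i, (ψ i).hom ≫ (Y i).hom = (Y' i).hom ≫ e.hom)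
  (P : Cᵒᵖ ⥤ AddCommGrpCat.{w})

/-- Transport a tuple. -/
def pushT {V : C} {g : V ⟶ U'} {n : ℕ} (τ : Fin (n + 1) → T Y' g) : Fin (n + 1) → T Y (g ≫ e.hom) :=
  fun k => ⟨⟨(τ k).1.1, (τ k).1.2 ≫ (ψ _).hom⟩, by
    rw [Category.assoc, h, ← Category.assoc, (τ k).2]⟩

/-- Transport a tuple backwards. -/
def backT {V : C} {g : V ⟶ U} {n : ℕ} (τ : Fin (n + 1) → T Y g) : Fin (n + 1) → T Y' (g ≫ e.inv) :=
  fun k => ⟨⟨(τ k).1.1, (τ k).1.2 ≫ (ψ _).inv⟩, by
    rw [← cancel_mono e.hom, Category.assoc, Category.assoc, Category.assoc, ← h, Iso.inv_hom_id,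
      Category.comp_id, Iso.inv_hom_id_assoc, (τ k).2]⟩

include h in
/-- Čech cohomology only depends on the family up to isomorphism. -/
theorem isZero_cechH_of_iso {p : ℕ} (hz : IsZero (EtCech.cechH Y' P (p + 1))) :
    IsZero (EtCech.cechH Y P (p + 1)) := by
  refine isZero_cechH_succ Y P fun x hx => ?_
  obtain ⟨x', hx'⟩ := exists_ev_eq Y' P (n := p + 1)
    (fun V g τ => ev Y P (pushT Y Y' e ψ h τ) x) (fun V W g b τ => by
      show ev Y P (pushT Y Y' e ψ h (pullT b rfl τ)) x = _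
      rw [← ev_natural Y P b rfl (pushT Y Y' e ψ h τ) x]
      exact ev_congr Y P (τ := pushT Y Y' e ψ h (pullT b rfl τ)) (τ' := pullT b rfl (pushT Y Y' e ψ h τ))
        (fun k => Sigma.ext rfl (heq_of_eq (Category.assoc _ _ _))) x)
  have hd : (d Y' P (p + 1)).hom x' = 0 := hom_ext Y' P fun V g τ => by
    have h0 := congrArg (fun z => ev Y P (pushT Y Y' e ψ h τ) z) hx
    simp only [map_zero] at h0
    rw [map_zero, ev_d]
    refine Eq.trans ?_ h0
    rw [ev_d]
    refine Finset.sum_congr rfl fun j _ => ?_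
    rw [hx']
    rfl
  obtain ⟨y', hy'⟩ := exists_of_isZero_cechH_succ Y' P hz x' hd
  obtain ⟨y, hy⟩ := exists_ev_eq Y P (n := p) (fun V g τ => ev Y' P (backT Y Y' e ψ h τ) y')
    (fun V W g b τ => by
      show ev Y' P (backT Y Y' e ψ h (pullT b rfl τ)) y' = _
      rw [← ev_natural Y' P b rfl (backT Y Y' e ψ h τ) y']
      exact ev_congr Y' P (τ := backT Y Y' e ψ h (pullT b rfl τ)) (τ' := pullT b rfl (backT Y Y' e ψ h τ))
        (fun k => Sigma.ext rfl (heq_of_eq (Category.assoc _ _ _))) y')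
  refine ⟨y, hom_ext Y P fun V g τ => ?_⟩
  have h1 : ev Y' P (backT Y Y' e ψ h τ) ((d Y' P p).hom y') = ev Y' P (backT Y Y' e ψ h τ) x' :=
    congrArg (fun z => ev Y' P (backT Y Y' e ψ h τ) z) hy'
  rw [hx'] at h1
  rw [ev_d]
  refine Eq.trans ?_ (h1.trans (ev_congr Y P (τ := pushT Y Y' e ψ h (backT Y Y' e ψ h τ)) (τ' := τ)
    (fun k => Sigma.ext rfl (heq_of_eq ?_)) x))
  · rw [ev_d]
    refine Finset.sum_congr rfl fun j _ => ?_
    rw [hy]
    rfl
  · show ((τ k).1.2 ≫ (ψ _).inv) ≫ (ψ _).hom = (τ k).1.2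
    rw [Category.assoc, Iso.inv_hom_id, Category.comp_id]

end Groth.Agent.H1Lim
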