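import Groth.Agent.H1Lim.System
import Groth.Agent.H18Et.StalkSets

/-!
# Every system embeds into a system of injective sheaves
-/

set_option autoImplicit false
set_option backward.isDefEq.respectTransparency false
set_option backward.isDefEq.respectTransparency.types false

universe u

open CategoryTheory CategoryTheory.Limits AlgebraicGeometry Opposite

namespace Groth.Agent.H1Lim

open scoped Groth.Agent.H18Et Groth.Agent.H18Et.CohColim
open Groth.Agent.H18Et

variable {I : Type u} [SmallCategory I] {D : I ⥤ Scheme.{u}}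

/-- The map of base changes induced by a morphism. -/
noncomputable def leg {A B : Tot D} (h : A ⟶ B) {l : I} (c' : l ⟶ A.idx) (a : l ⟶ B.idx)
    (ha : a = c' ≫ h.base) :
    (EtCoh.bc (D.map c')).obj A.U ⟶ (EtCoh.bc (D.map a)).obj B.U :=
  MorphismProperty.Over.homMk
    (pullback.lift (pullback.fst A.U.hom (D.map c') ≫ h.top) (pullback.snd A.U.hom (D.map c')) (by
      rw [Category.assoc, h.w, pullback.condition_assoc, ← D.map_comp, ha]))
    (pullback.lift_snd _ _ _) trivial

theorem leg_fst {A B : Tot D} (h : A ⟶ B) {l : I} (c' : l ⟶ A.idx) (a : l ⟶ B.idx)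
    (ha : a = c' ≫ h.base) :
    (leg h c' a ha).left ≫ pullback.fst B.U.hom (D.map a) = pullback.fst A.U.hom (D.map c') ≫ h.top :=
  pullback.lift_fst _ _ _

theorem leg_snd {A B : Tot D} (h : A ⟶ B) {l : I} (c' : l ⟶ A.idx) (a : l ⟶ B.idx)
    (ha : a = c' ≫ h.base) :
    (leg h c' a ha).left ≫ pullback.snd B.U.hom (D.map a) = pullback.snd A.U.hom (D.map c') :=
  pullback.lift_snd _ _ _

variable (E : ∀ l, EtCoh.Ab (D.obj l))

/-- The values of the product system. -/
abbrev ProdVal (A : Tot D) : Type (u + 1) :=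
  ∀ p : Σ l : I, l ⟶ A.idx, EtCoh.sect (E p.1) ((EtCoh.bc (D.map p.2)).obj A.U)

/-- The restriction of values. -/
noncomputable def prodMap {A B : Tot D} (h : A ⟶ B) : ProdVal E B →+ ProdVal E A :=
  AddMonoidHom.mk' (fun x p => (E p.1).obj.map (leg h p.2 (p.2 ≫ h.base) rfl).op (x ⟨p.1, p.2 ≫ h.base⟩))
    fun _ _ => funext fun _ => map_add _ _ _

theorem prodMap_apply {A B : Tot D} (h : A ⟶ B) (x : ProdVal E B) {l : I} (c' : l ⟶ A.idx)
    (a : l ⟶ B.idx) (ha : a = c' ≫ h.base) :
    prodMap E h x ⟨l, c'⟩ = (E l).obj.map (leg h c' a ha).op (x ⟨l, a⟩) := by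
  subst ha
  rfl

theorem leg_id (A : Tot D) {l : I} (c' : l ⟶ A.idx) :
    leg (𝟙 A) c' c' (Category.comp_id c').symm = 𝟙 _ :=
  MorphismProperty.Over.Hom.ext (pullback.hom_ext
    ((leg_fst _ _ _ _).trans ((Category.comp_id _).trans (Category.id_comp _).symm))
    ((leg_snd _ _ _ _).trans (Category.id_comp _).symm))

theorem leg_comp {A B C : Tot D} (f : A ⟶ B) (g : B ⟶ C) {l : I} (c' : l ⟶ A.idx) :
    leg f c' (c' ≫ f.base) rfl ≫ leg g (c' ≫ f.base) ((c' ≫ f.base) ≫ g.base) rfl =
      leg (f ≫ g) c' ((c' ≫ f.base) ≫ g.base) (Category.assoc _ _ _) :=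
  MorphismProperty.Over.Hom.ext (pullback.hom_ext
    ((((Category.assoc _ _ _).trans (congrArg (_ ≫ ·) (leg_fst g _ _ _))).trans
      ((Category.assoc _ _ _).symm.trans ((congrArg (· ≫ g.top) (leg_fst f _ _ _)).trans
        (Category.assoc _ _ _)))).trans (leg_fst (f ≫ g) _ _ _).symm)
    ((((Category.assoc _ _ _).trans (congrArg (_ ≫ ·) (leg_snd g _ _ _))).trans (leg_snd f _ _ _)).trans
      (leg_snd (f ≫ g) _ _ _).symm))

/-- The product presheaf. -/
noncomputable def prodPre : (Tot D)ᵒᵖ ⥤ AddCommGrpCat.{u + 1} where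
  obj A := AddCommGrpCat.of (ProdVal E A.unop)
  map {B A} h := AddCommGrpCat.ofHom (prodMap E h.unop)
  map_id A := by
    refine ConcreteCategory.hom_ext _ _ fun x => ?_
    change prodMap E (𝟙 A.unop) x = x
    funext ⟨l, c'⟩
    rw [prodMap_apply E (𝟙 A.unop) x c' c' (Category.comp_id c').symm, leg_id, op_id,
      Functor.map_id_apply]
  map_comp {A B C} f g := by
    refine ConcreteCategory.hom_ext _ _ fun x => ?_
    change prodMap E (g.unop ≫ f.unop) x = prodMap E g.unop (prodMap E f.unop x)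
    funext ⟨l, c'⟩
    rw [prodMap_apply E (g.unop ≫ f.unop) x c' ((c' ≫ g.unop.base) ≫ f.unop.base) (Category.assoc _ _ _),
      ← leg_comp g.unop f.unop c', op_comp, Functor.map_comp_apply]
    rfl

/-- The component on the fibre. -/
theorem prodMap_incl {i : I} {V U : (D.obj i).Etale} (g : V ⟶ U)
    (x : ProdVal E ((incl i).obj U)) {l : I} (c' : l ⟶ i) :
    prodMap E ((incl i).map g) x ⟨l, c'⟩ =
      ((EtCoh.push (D.map c')).obj (E l)).obj.map g.op (x ⟨l, c'⟩) := by
  rw [prodMap_apply E ((incl i).map g) x c' c' (Category.comp_id c').symm]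
  exact congrArg (fun z => (E l).obj.map (Quiver.Hom.op z) (x ⟨l, c'⟩))
    (MorphismProperty.Over.Hom.ext (pullback.hom_ext
      ((leg_fst _ _ _ _).trans (bc_map_fst (D.map c') g).symm)
      ((leg_snd _ _ _ _).trans (bc_map_snd (D.map c') g).symm)))

theorem isSheaf_prodPre : Presheaf.IsSheaf (topology D) (prodPre E) := by
  rw [Presheaf.isSheaf_iff_isSheaf_forget (topology D) (prodPre E) (CategoryTheory.forget AddCommGrpCat.{u + 1}),
    isSheaf_iff_isSheaf_of_type]
  refine isSheaf_of_fibres _ fun i U S hS x hx => ?_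
  have hsh : ∀ p : Σ l : I, l ⟶ i, Presieve.IsSheaf (D.obj i).smallEtaleTopology
      (((EtCoh.push (D.map p.2)).obj (E p.1)).obj ⋙ CategoryTheory.forget AddCommGrpCat.{u + 1}) := fun p =>
    (isSheaf_iff_isSheaf_of_type _ _).1
      ((sheafCompose (D.obj i).smallEtaleTopology (CategoryTheory.forget AddCommGrpCat.{u + 1})).obj
        ((EtCoh.push (D.map p.2)).obj (E p.1))).2
  let y : ∀ p : Σ l : I, l ⟶ i, Presieve.FamilyOfElements
      (((EtCoh.push (D.map p.2)).obj (E p.1)).obj ⋙ CategoryTheory.forget AddCommGrpCat.{u + 1}) S.arrows :=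
    fun p V v hv => (show ProdVal E ((incl i).obj V) from x v hv) p
  have hy : ∀ p, (y p).Compatible := by
    intro p Y₁ Y₂ Z a b f₁ f₂ h₁ h₂ e
    obtain ⟨l, c'⟩ := p
    have h := congrFun (show prodMap E ((incl i).map a) (x f₁ h₁) = prodMap E ((incl i).map b) (x f₂ h₂)
      from hx a b h₁ h₂ e) ⟨l, c'⟩
    rwa [prodMap_incl, prodMap_incl] at h
  choose t ht huniq using fun p => hsh p S hS (y p) (hy p)
  refine ⟨fun p => t p, fun V v hv => funext fun p => ?_, fun t' ht' => funext fun p => ?_⟩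
  · obtain ⟨l, c'⟩ := p
    exact (prodMap_incl E v (fun p => t p) c').trans (ht ⟨l, c'⟩ v hv)
  · obtain ⟨l, c'⟩ := p
    refine huniq ⟨l, c'⟩ _ fun V v hv => ?_
    exact (prodMap_incl E v t' c').symm.trans (congrFun (ht' v hv) ⟨l, c'⟩)

/-- The product system. -/
noncomputable def prodSys : Sys D := ⟨prodPre E, isSheaf_prodPre E⟩

/-- A component of the product system on a fibre. -/
noncomputable def compHom {i : I} (p : Σ l : I, l ⟶ i) :
    (res D i).obj (prodSys E) ⟶ (EtCoh.push (D.map p.2)).obj (E p.1) :=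
  ⟨{ app := fun U => AddCommGrpCat.ofHom
      (Pi.evalAddMonoidHom (fun q : Σ l : I, l ⟶ i => EtCoh.sect (E q.1) ((EtCoh.bc (D.map q.2)).obj U.unop)) p)
     naturality := fun U V g => by
      refine ConcreteCategory.hom_ext _ _ fun x => ?_
      obtain ⟨l, c'⟩ := p
      exact prodMap_incl E g.unop x c' }⟩

theorem injective_res_prodSys [∀ l, Injective (E l)] (i : I) : Injective ((res D i).obj (prodSys E)) := by
  constructor
  intro A B g f _
  haveI : ∀ p : Σ l : I, l ⟶ i, Injective ((EtCoh.push (D.map p.2)).obj (E p.1)) := fun p =>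
    Injective.injective_of_adjoint (EtCoh.pullPushAdj (D.map p.2)) (E p.1)
  choose h hh using fun p : Σ l : I, l ⟶ i => Injective.factors (g ≫ compHom E p) f
  refine ⟨⟨{ app := fun U => AddCommGrpCat.ofHom (AddMonoidHom.mk'
        (fun s => fun p : Σ l : I, l ⟶ i => (h p).hom.app U s) fun a b => funext fun p => map_add _ _ _)
             naturality := fun U V v => by
              refine ConcreteCategory.hom_ext _ _ fun s => ?_
              funext ⟨l, c'⟩
              refine Eq.trans ?_ (prodMap_incl E v.unop _ c').symm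
              exact NatTrans.naturality_apply (h ⟨l, c'⟩).hom v s }⟩, ?_⟩
  ext U s
  funext p
  exact congrArg (fun φ : A ⟶ (EtCoh.push (D.map p.2)).obj (E p.1) => φ.hom.app U s) (hh p)

/-- Every system embeds into one whose members are injective. -/
theorem exists_injective_embedding (P : Sys D) :
    ∃ (G : Sys D) (η : P ⟶ G), Mono η ∧ ∀ i, Injective ((res D i).obj G) := by
  let E : ∀ l, EtCoh.Ab (D.obj l) := fun l => Injective.under ((res D l).obj P)
  let η : P ⟶ prodSys E := ⟨{
    app := fun A => AddCommGrpCat.ofHom (AddMonoidHom.mk'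
      (fun s => fun p : Σ l : I, l ⟶ A.unop.idx =>
        (Injective.ι ((res D p.1).obj P)).hom.app (op ((EtCoh.bc (D.map p.2)).obj A.unop.U))
          (P.obj.map (proj p.2 A.unop.U).op s))
      fun a b => funext fun p => by
        refine (congrArg _ ((P.obj.map (proj p.2 A.unop.U).op).hom.map_add a b)).trans ?_
        exact map_add _ _ _)
    naturality := fun A B h => by
      refine ConcreteCategory.hom_ext _ _ fun s => ?_
      funext ⟨l, c'⟩
      refine Eq.trans ?_ (NatTrans.naturality_apply (Injective.ι ((res D l).obj P)).hom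
        (leg h.unop c' (c' ≫ h.unop.base) rfl).op _)
      refine congrArg ((Injective.ι ((res D l).obj P)).hom.app (op ((EtCoh.bc (D.map c')).obj B.unop.U))) ?_
      refine map_eq_map P.obj (proj c' B.unop.U) h.unop
        ((incl l).map (leg h.unop c' (c' ≫ h.unop.base) rfl)) (proj (c' ≫ h.unop.base) A.unop.U) ?_ s
      exact Tot.hom_ext (Category.id_comp _).symm (leg_fst h.unop c' (c' ≫ h.unop.base) rfl).symm }⟩
  refine ⟨prodSys E, η, ?_, fun i => injective_res_prodSys E i⟩
  refine Sheaf.mono_of_injective η fun A s s' he => ?_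
  obtain ⟨⟨i, U⟩⟩ := A
  have h := congrFun he ⟨i, 𝟙 i⟩
  have hinj : Function.Injective ((Injective.ι ((res D i).obj P)).hom.app
      (op ((EtCoh.bc (D.map (𝟙 i))).obj U))) :=
    (AddCommGrpCat.mono_iff_injective _).1 (by
      haveI := (sheafToPresheaf (D.obj i).smallEtaleTopology AddCommGrpCat.{u + 1}).map_mono
        (Injective.ι ((res D i).obj P))
      exact inferInstanceAs (Mono (((sheafToPresheaf (D.obj i).smallEtaleTopology AddCommGrpCat.{u + 1}).map
        (Injective.ι ((res D i).obj P))).app _)))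
  have h2 : P.obj.map (proj (𝟙 i) U).op s = P.obj.map (proj (𝟙 i) U).op s' := hinj h
  have e : (incl i).map (fibPart (W := U) (U := U) (𝟙 ((incl i).obj U))) ≫ proj (𝟙 i) U = 𝟙 _ :=
    fibPart_proj (W := U) (U := U) (𝟙 ((incl i).obj U))
  have h3 := congrArg (P.obj.map ((incl i).map (fibPart (W := U) (U := U) (𝟙 ((incl i).obj U)))).op) h2
  have key : ∀ z : P.obj.obj (op ((incl i).obj U)),
      P.obj.map ((incl i).map (fibPart (W := U) (U := U) (𝟙 ((incl i).obj U)))).op
        (P.obj.map (proj (𝟙 i) U).op z) = z := fun z =>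
    ((Functor.map_comp_apply P.obj _ _ z).symm.trans
      (congrArg (fun m => P.obj.map (Quiver.Hom.op m) z) e)).trans (Functor.map_id_apply P.obj _ z)
  exact (key s).symm.trans (h3.trans (key s'))

end Groth.Agent.H1Lim
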