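import Groth.Agent.H1Lim.Stages
import Groth.Agent.S0591
import Groth.Agent.S9192
import Groth.Agent.S9218

/-!
# Descent of quasi-compact quasi-separated étale schemes to a stage
-/

set_option autoImplicit false
set_option backward.isDefEq.respectTransparency false
set_option backward.isDefEq.respectTransparency.types false

universe u

open CategoryTheory CategoryTheory.Limits AlgebraicGeometry Opposite

namespace Groth.Agent.H1Lim

variable {I : Type u} [SmallCategory I] {D : I ⥤ Scheme.{u}} (c : Cone D)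

/-- Morphisms over a given transition map are morphisms into the base change. -/
theorem exists_fibre {i k : I} {W : (D.obj k).Etale} {U : (D.obj i).Etale}
    (h : (incl k).obj W ⟶ (incl i).obj U) {b : k ⟶ i} (hb : h.base = b) :
    ∃ g : W ⟶ (EtCoh.bc (D.map b)).obj U, (incl k).map g ≫ proj b U = h := by
  subst hb
  exact ⟨fibPart h, fibPart_proj h⟩

variable [IsCofiltered I] (hc : IsLimit c) [∀ ⦃a b : I⦄ (f : a ⟶ b), IsAffineHom (D.map f)]
  [∀ a, CompactSpace (D.obj a)] [∀ a, QuasiSeparatedSpace (D.obj a)]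

include hc in
/-- A qcqs étale scheme over the limit comes from a stage. -/
theorem exists_descend_obj (V : c.pt.Etale) [CompactSpace V.left] [QuasiSeparatedSpace V.left] :
    ∃ (k : I) (U : (D.obj k).Etale), CompactSpace U.left ∧ QuasiSeparatedSpace U.left ∧
      Nonempty ((toCone c).obj ((incl k).obj U) ≅ V) := by
  haveI : ∀ (p r : I) (f : p ⟶ r), IsAffineHom (D.map f) := fun p r f => inferInstance
  obtain ⟨i₁⟩ := (IsCofiltered.nonempty : Nonempty I)
  haveI : CompactSpace c.pt := Scheme.compactSpace_of_isLimit D c hc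
  haveI : QuasiSeparatedSpace c.pt := by
    haveI := isAffineHom_π_app D c hc i₁
    exact quasiSeparatedSpace_of_quasiSeparated (c.π.app i₁)
  let v : V.left ⟶ c.pt := V.hom
  haveI : Etale v := V.prop
  haveI : QuasiCompact v := quasiCompact_of_compactSpace _
  haveI : QuasiSeparated v :=
    haveI : QuasiSeparated (v ≫ terminal.from c.pt) := by
      rw [terminal.comp_from]; exact (quasiSeparatedSpace_iff_quasiSeparated V.left).1 ‹QuasiSeparatedSpace V.left›
    .of_comp v (terminal.from c.pt)
  obtain ⟨i, X₀, f₀, q, hlfp, hqc, hqs, hX⟩ := Groth.Agent.S0591.result D c hc V.left v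
  haveI : CompactSpace X₀ := QuasiCompact.compactSpace_of_compactSpace f₀
  haveI : QuasiSeparatedSpace X₀ := quasiSeparatedSpace_of_quasiSeparated f₀
  obtain ⟨k, φ, Xk, Yk, fk, gk, pY, pX, hYk, hXk, hek⟩ := Groth.Agent.S9192.result D c hc i f₀ (𝟙 _)
    v (𝟙 c.pt) (c.π.app i) q (IsPullback.id_vert _) hX
  haveI : IsIso gk := hYk.isIso_snd_of_isIso
  have hpY : pY = gk ≫ D.map φ := by simpa using hYk.w
  have hU : IsPullback pX (fk ≫ gk) f₀ (D.map φ) := by
    simpa using hXk.paste_vert hYk
  let U : (D.obj k).Etale := MorphismProperty.Over.mk ⊤ (fk ≫ gk) (inferInstanceAs (Etale _))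
  haveI : QuasiCompact (fk ≫ gk) := MorphismProperty.of_isPullback (P := @QuasiCompact) hU hqc
  haveI : QuasiSeparated (fk ≫ gk) := MorphismProperty.of_isPullback (P := @QuasiSeparated) hU hqs
  refine ⟨k, U, QuasiCompact.compactSpace_of_compactSpace (fk ≫ gk),
    quasiSeparatedSpace_of_quasiSeparated (fk ≫ gk), ?_⟩
  have hw : q ≫ f₀ = (v ≫ c.π.app k) ≫ D.map φ := by rw [Category.assoc, c.w, hX.w]
  have hV : IsPullback (hU.lift q (v ≫ c.π.app k) hw) v (fk ≫ gk) (c.π.app k) := by
    refine IsPullback.of_right ?_ (hU.lift_snd _ _ _) hU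
    rw [hU.lift_fst, c.w]
    exact hX
  exact ⟨MorphismProperty.Over.isoMk hV.isoPullback.symm hV.isoPullback_inv_snd⟩

include hc in
/-- A morphism between base changed objects comes from a stage. -/
theorem exists_descend_hom {i : I} (W U : (D.obj i).Etale) [CompactSpace W.left]
    [QuasiSeparatedSpace W.left] [CompactSpace U.left] [QuasiSeparatedSpace U.left]
    (f : (toCone c).obj ((incl i).obj W) ⟶ (toCone c).obj ((incl i).obj U)) :
    ∃ (j : I) (φ : j ⟶ i) (h : bcObj φ W ⟶ (incl i).obj U),
      h.base = φ ∧ (toCone c).map h = (toCone c).map (proj φ W) ≫ f := by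
  haveI : ∀ (p r : I) (f : p ⟶ r), IsAffineHom (D.map f) := fun p r f => inferInstance
  haveI : Etale W.hom := W.prop
  haveI : Etale U.hom := U.prop
  let wh : W.left ⟶ D.obj i := W.hom
  let uh : U.left ⟶ D.obj i := U.hom
  haveI : Etale wh := W.prop
  haveI : Etale uh := U.prop
  obtain ⟨j, φ, fj, sX, sY, hfj, hX₁, hX₂, hY₁, hY₂, hcomm⟩ := Groth.Agent.S9218.result D c hc i
    wh uh (pullback.fst W.hom (c.π.app i)) (pullback.snd W.hom (c.π.app i))
    (IsPullback.of_hasPullback _ _) (pullback.fst U.hom (c.π.app i)) (pullback.snd U.hom (c.π.app i))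
    (IsPullback.of_hasPullback _ _) f.left (MorphismProperty.Over.w f)
  let h : bcObj φ W ⟶ (incl i).obj U := ⟨φ, fj ≫ pullback.fst U.hom (D.map φ), by
    refine ((Category.assoc _ _ _).trans (congrArg (fj ≫ ·) pullback.condition)).trans ?_
    exact (Category.assoc _ _ _).symm.trans (congrArg (· ≫ D.map φ) hfj)⟩
  refine ⟨j, φ, h, rfl, MorphismProperty.Over.Hom.ext (pullback.hom_ext ?_ ?_)⟩
  · refine (toCone_map_fst c h).trans ?_
    have hs : ((toCone c).map (proj φ W)).left ≫ sX =
        pullback.fst ((EtCoh.bc (D.map φ)).obj W).hom (c.π.app j) := by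
      refine pullback.hom_ext ?_ ?_
      · exact ((Category.assoc _ _ _).trans (congrArg (_ ≫ ·) hX₁)).trans (toCone_map_fst c (proj φ W))
      · refine ((Category.assoc _ _ _).trans (congrArg (_ ≫ ·) hX₂)).trans ?_
        refine ((Category.assoc _ _ _).symm.trans (congrArg (· ≫ c.π.app j) (toCone_map_snd c (proj φ W)))).trans ?_
        exact pullback.condition.symm
    refine Eq.trans ?_ (Category.assoc _ _ _).symm
    refine Eq.trans ?_ (congrArg (((toCone c).map (proj φ W)).left ≫ ·) (congrArg (f.left ≫ ·) hY₁))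
    refine Eq.trans ?_ (congrArg (((toCone c).map (proj φ W)).left ≫ ·)
      ((congrArg (· ≫ pullback.fst U.hom (D.map φ)) hcomm).trans (Category.assoc _ _ _)))
    refine Eq.trans ?_ ((Category.assoc _ _ _).trans (congrArg (_ ≫ ·) (Category.assoc _ _ _).symm))
    exact (congrArg (· ≫ fj ≫ pullback.fst U.hom (D.map φ)) hs).symm
  · refine (toCone_map_snd c h).trans ?_
    refine Eq.trans ?_ (Category.assoc _ _ _).symm
    refine Eq.trans ?_ (congrArg (((toCone c).map (proj φ W)).left ≫ ·) (MorphismProperty.Over.w f)).symm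
    exact (toCone_map_snd c (proj φ W)).symm

end Groth.Agent.H1Lim
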