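import Groth.Agent.H1Lim.Acyclic
import Groth.Agent.H1Lim.Descent
import Groth.Agent.H1Lim.CechTransport
import Groth.Agent.H18Cech.Push
import Mathlib.CategoryTheory.Limits.Constructions.Over.Basic

/-!
# The limit of a system of injective sheaves is Čech acyclic
-/

set_option autoImplicit false
set_option backward.isDefEq.respectTransparency false
set_option backward.isDefEq.respectTransparency.types false

universe u

open CategoryTheory CategoryTheory.Limits AlgebraicGeometry Opposite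

namespace Groth.Agent.H1Lim

open scoped Groth.Agent.H18Et Groth.Agent.H18Et.CohColim
open Groth.Agent.H18Et Groth.Agent.H18Et.QCAc

variable {I : Type u} [SmallCategory I] [IsCofiltered I] {D : I ⥤ Scheme.{u}} (c : Cone D) (hc : IsLimit c)
  [∀ ⦃a b : I⦄ (f : a ⟶ b), IsAffineHom (D.map f)]
  [∀ a, CompactSpace (D.obj a)] [∀ a, QuasiSeparatedSpace (D.obj a)]

omit [IsCofiltered I] [∀ a, CompactSpace (D.obj a)] [∀ a, QuasiSeparatedSpace (D.obj a)] in
theorem qcqs_bc {i k : I} (a : k ⟶ i) {U : (D.obj i).Etale} (h : QCQS U) :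
    QCQS ((EtCoh.bc (D.map a)).obj U) :=
  ⟨@H7Lim.compactSpace_pbDiagram_obj I _ D i U.left U.hom (fun p r f => inferInstance) h.1 (Over.mk a),
   @H7Lim.quasiSeparatedSpace_pbDiagram_obj I _ D i U.left U.hom (fun p r f => inferInstance) h.2 (Over.mk a)⟩

include hc in
/-- The limit of a system of injective sheaves is Čech acyclic. -/
theorem isQCAcyclic_limSheaf (P : Sys D) (hP : ∀ k, Injective ((res D k).obj P)) :
    IsQCAcyclic ((limSheaf c).obj P) := by
  classical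
  intro U _ ι _ Y hU hY p
  haveI := Fintype.ofFinite ι
  haveI := hU.1; haveI := hU.2
  obtain ⟨kU, U₀, hU₀c, hU₀q, ⟨eU⟩⟩ := exists_descend_obj c hc U
  have hdesc : ∀ i : ι, ∃ (k : I) (W : (D.obj k).Etale), QCQS W ∧
      Nonempty ((toCone c).obj ((incl k).obj W) ≅ (Y i).left) := fun i => by
    haveI := (hY i).1
    haveI := (hY i).2
    obtain ⟨k, W, h1, h2, h3⟩ := exists_descend_obj c hc (Y i).left
    exact ⟨k, W, ⟨h1, h2⟩, h3⟩
  choose kY W₀ hW₀ eW using hdesc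
  obtain ⟨k, hk⟩ := IsCofiltered.inf_objs_exists (insert kU (Finset.univ.image kY))
  let aU : k ⟶ kU := (hk (Finset.mem_insert_self _ _)).some
  let aY : ∀ i, k ⟶ kY i := fun i =>
    (hk (Finset.mem_insert_of_mem (Finset.mem_image_of_mem _ (Finset.mem_univ i)))).some
  let U₁ := (EtCoh.bc (D.map aU)).obj U₀
  let W₁ : ι → (D.obj k).Etale := fun i => (EtCoh.bc (D.map (aY i))).obj (W₀ i)
  have hU₁ : QCQS U₁ := qcqs_bc aU ⟨hU₀c, hU₀q⟩
  have hW₁ : ∀ i, QCQS (W₁ i) := fun i => qcqs_bc (aY i) (hW₀ i)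
  let eU₁ : (toCone c).obj ((incl k).obj U₁) ≅ U := asIso ((toCone c).map (proj aU U₀)) ≪≫ eU
  let eW₁ : ∀ i, (toCone c).obj ((incl k).obj (W₁ i)) ≅ (Y i).left := fun i =>
    asIso ((toCone c).map (proj (aY i) (W₀ i))) ≪≫ (eW i).some
  have hh : ∀ i, ∃ (j : I) (φ : j ⟶ k) (h : bcObj φ (W₁ i) ⟶ (incl k).obj U₁), h.base = φ ∧
      (toCone c).map h = (toCone c).map (proj φ (W₁ i)) ≫ ((eW₁ i).hom ≫ (Y i).hom ≫ eU₁.inv) := fun i => by
    haveI := (hW₁ i).1; haveI := (hW₁ i).2; haveI := hU₁.1; haveI := hU₁.2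
    exact exists_descend_hom c hc (W₁ i) U₁ _
  choose jj φ h hb hh using hh
  obtain ⟨l, b, t, ht⟩ := exists_common jj φ
  have hg : ∀ i, ∃ g : (EtCoh.bc (D.map b)).obj (W₁ i) ⟶ (EtCoh.bc (D.map b)).obj U₁,
      (incl l).map g ≫ proj b U₁ = stageMap (t i) (ht i) (W₁ i) ≫ h i := fun i =>
    exists_fibre _ (by rw [comp_base, hb]; exact ht i)
  choose g hg using hg
  let F := EtCoh.bc (c.π.app l)
  let U₂ := (EtCoh.bc (D.map b)).obj U₁
  let Y₀ : ι → Over U₂ := fun i => Over.mk (g i)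
  let Y' : ι → Over (F.obj U₂) := H18Cech.imY F Y₀
  let e₂ : F.obj U₂ ≅ U := (@asIso _ _ _ _ ((toCone c).map (proj b U₁)) (isIso_toCone_proj c b U₁)) ≪≫ eU₁
  let ψ : ∀ i, (Y' i).left ≅ (Y i).left := fun i =>
    (@asIso _ _ _ _ ((toCone c).map (proj b (W₁ i))) (isIso_toCone_proj c b (W₁ i))) ≪≫ eW₁ i
  haveI : PreservesLimitsOfShape WalkingCospan F := inferInstance
  refine isZero_cechH_of_iso Y Y' e₂ ψ (fun i => ?_) _ ?_
  · show ((toCone c).map (proj b (W₁ i)) ≫ (eW₁ i).hom) ≫ (Y i).hom =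
      F.map (g i) ≫ (toCone c).map (proj b U₁) ≫ eU₁.hom
    refine Eq.trans ?_ (congrArg (· ≫ (toCone c).map (proj b U₁) ≫ eU₁.hom) (toCone_incl_map c (g i)))
    refine Eq.trans ?_ ((Category.assoc _ _ _).symm.trans rfl).symm
    refine Eq.trans ?_ (congrArg (· ≫ eU₁.hom) ((toCone c).map_comp _ _))
    rw [hg i, Functor.map_comp, hh i]
    refine Eq.trans ?_ (congrArg (· ≫ eU₁.hom) (Category.assoc _ _ _))
    rw [← Functor.map_comp, stageMap_proj]
    simp [Category.assoc]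
  · refine IsZero.of_iso ?_ ((HomologicalComplex.homologyFunctor _ _ (p + 1)).mapIso
      (H18Cech.cechIso F Y₀ ((limSheaf c).obj P).obj))
    exact isQCAcyclic_push c P hc hP U₂ ι Y₀ (qcqs_bc b hU₁) (fun i => qcqs_bc b (hW₁ i)) p

end Groth.Agent.H1Lim
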