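import Groth.Agent.H1Lim.Maps
import Groth.Agent.H1Lim.Embedding
import Groth.Agent.H1Lim.LimAcyclic

/-!
# Etale cohomology of a cofiltered limit of schemes
-/

set_option autoImplicit false
set_option backward.isDefEq.respectTransparency false
set_option backward.isDefEq.respectTransparency.types false

universe u

open CategoryTheory CategoryTheory.Limits AlgebraicGeometry Opposite Abelian

namespace Groth.Agent.H1Lim

open scoped Groth.Agent.H18Et Groth.Agent.H18Et.CohColim

attribute [local instance] Groth.Agent.H18Et.pull_preservesFiniteLimits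

variable {I : Type u} [SmallCategory I] {D : I ⥤ Scheme.{u}}

/-- A short exact sequence of systems starting at `P` with injective middle members. -/
theorem exists_shortExact (P : Sys D) :
    ∃ (S : ShortComplex (Sys D)), S.X₁ = P ∧ S.ShortExact ∧ ∀ i, Injective ((res D i).obj S.X₂) := by
  obtain ⟨G, η, _, hG⟩ := exists_injective_embedding P
  exact ⟨ShortComplex.mk η (cokernel.π η) (cokernel.condition η), rfl,
    { exact := ShortComplex.exact_of_g_is_cokernel _ (cokernelIsCokernel _) }, hG⟩

/-- The connecting map of a member. -/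
noncomputable abbrev dlt {S : ShortComplex (Sys D)} (hS : S.ShortExact) (i : I) {n : ℕ}
    (y : Sheaf.H ((res D i).obj S.X₃) n) : Sheaf.H ((res D i).obj S.X₁) (n + 1) :=
  Ext.comp y (hS.map_of_exact (res D i)).extClass rfl

theorem exists_dlt {S : ShortComplex (Sys D)} (hS : S.ShortExact) (hG : ∀ i, Injective ((res D i).obj S.X₂))
    (i : I) {n : ℕ} (y : Sheaf.H ((res D i).obj S.X₁) (n + 1)) : ∃ b, dlt hS i b = y := by
  haveI : Injective (S.map (res D i)).X₂ := hG i
  obtain ⟨b, hb⟩ := Ext.covariant_sequence_exact₁ _ (hS.map_of_exact (res D i)) y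
    (Ext.eq_zero_of_injective _) rfl
  exact ⟨b, hb⟩

theorem HT_comp : ∀ (n : ℕ) (P : Sys D) {i k l : I} (a : k ⟶ i) (b : l ⟶ k)
    (y : Sheaf.H ((res D i).obj P) n), HT P b n (HT P a n y) = HT P (b ≫ a) n y := by
  intro n
  induction n with
  | zero =>
    intro P i k l a b y
    apply (Sheaf.H.equiv₀ _ (EtCore.topIsTerminal (D.obj l))).injective
    rw [equiv₀_HT, equiv₀_HT, equiv₀_HT, ← topHom_comp a b]
    exact (Functor.map_comp_apply P.obj _ _ _).symm
  | succ n ih =>
    intro P i k l a b y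
    obtain ⟨S, rfl, hS, hG⟩ := exists_shortExact P
    obtain ⟨z, rfl⟩ := exists_dlt hS hG i y
    show HT S.X₁ b (n + 1) (natPull (D.map a) (res D i) (res D k) (trans a) S.X₁ (n + 1) (dlt hS i z)) =
      natPull (D.map (b ≫ a)) (res D i) (res D l) (trans (b ≫ a)) S.X₁ (n + 1) (dlt hS i z)
    rw [natPull_extClass (D.map a) (res D i) (res D k) (trans a) hS n z,
      natPull_extClass (D.map (b ≫ a)) (res D i) (res D l) (trans (b ≫ a)) hS n z]
    refine (natPull_extClass (D.map b) (res D k) (res D l) (trans b) hS n _).trans ?_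
    exact congrArg (fun w => Ext.comp w (hS.map_of_exact (res D l)).extClass rfl) (ih S.X₃ a b z)

variable (c : Cone D) [IsCofiltered I]

theorem HLim_HT : ∀ (n : ℕ) (P : Sys D) {i k : I} (a : k ⟶ i)
    (y : Sheaf.H ((res D i).obj P) n), HLim c P k n (HT P a n y) = HLim c P i n y := by
  intro n
  induction n with
  | zero => exact fun P i k a y => equiv₀_HLim_HT c P a y
  | succ n ih =>
    intro P i k a y
    obtain ⟨S, rfl, hS, hG⟩ := exists_shortExact P
    obtain ⟨z, rfl⟩ := exists_dlt hS hG i y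
    show HLim c S.X₁ k (n + 1) (natPull (D.map a) (res D i) (res D k) (trans a) S.X₁ (n + 1) (dlt hS i z)) =
      natPull (X := c.pt) (c.π.app i) (res D i) (limSheaf c) (coproj c i) S.X₁ (n + 1) (dlt hS i z)
    rw [natPull_extClass (D.map a) (res D i) (res D k) (trans a) hS n z,
      natPull_extClass (X := c.pt) (c.π.app i) (res D i) (limSheaf c) (coproj c i) hS n z]
    refine (natPull_extClass (X := c.pt) (c.π.app k) (res D k) (limSheaf c) (coproj c k) hS n _).trans ?_
    exact congrArg (fun w => Ext.comp w (hS.map_of_exact (limSheaf c)).extClass rfl) (ih S.X₃ a z)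

variable (hc : IsLimit c) [∀ ⦃a b : I⦄ (f : a ⟶ b), IsAffineHom (D.map f)]
  [∀ a, CompactSpace (D.obj a)] [∀ a, QuasiSeparatedSpace (D.obj a)]

include hc in
theorem base_case (P : Sys D) :
    (∀ x : Sheaf.H ((limSheaf c).obj P) 0, ∃ (k : I) (y : Sheaf.H ((res D k).obj P) 0),
      HLim c P k 0 y = x) ∧
    (∀ (i : I) (y : Sheaf.H ((res D i).obj P) 0), HLim c P i 0 y = 0 →
      ∃ (k : I) (a : k ⟶ i), HT P a 0 y = 0) := by
  let L := (limSheaf c).obj P
  refine ⟨fun x => ?_, fun i y hy => ?_⟩
  · obtain ⟨i⟩ := (IsCofiltered.nonempty : Nonempty I)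
    let hT := EtCore.topIsTerminal c.pt
    let σ := L.obj.map (hT.from ((toCone c).obj (topObj (D := D) i))).op (Sheaf.H.equiv₀ L hT x)
    haveI : CompactSpace (EtCoh.top (D.obj i)).left := inferInstanceAs (CompactSpace (D.obj i))
    haveI : QuasiSeparatedSpace (EtCoh.top (D.obj i)).left :=
      inferInstanceAs (QuasiSeparatedSpace (D.obj i))
    obtain ⟨k, a, t, ht⟩ := sect_surj c P hc (EtCoh.top (D.obj i)) σ
    let j := (EtCore.bcTopIso (D.map a)).inv
    refine ⟨k, (Sheaf.H.equiv₀ _ (EtCore.topIsTerminal (D.obj k))).symm (P.obj.map ((incl k).map j).op t),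
      (Sheaf.H.equiv₀ L hT).injective ?_⟩
    rw [equiv₀_HLim, AddEquiv.apply_symm_apply]
    refine (congrArg (L.obj.map (EtCore.bcTopIso (c.π.app k)).inv.op)
      ((congrArg (L.obj.map ((toCone c).map ((incl k).map j)).op) ht).trans
        (toLim_naturality c P ((incl k).map j) t)).symm).trans ?_
    refine (Functor.map_comp_apply L.obj _ _ _).symm.trans ?_
    refine (Functor.map_comp_apply L.obj _ _ _).symm.trans ?_
    refine (Functor.map_comp_apply L.obj _ _ _).symm.trans ?_
    refine (congrArg (fun z => L.obj.map (Quiver.Hom.op z) (Sheaf.H.equiv₀ L hT x))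
      (hT.hom_ext _ (𝟙 (EtCoh.top c.pt)))).trans ?_
    exact Functor.map_id_apply L.obj _ _
  · have h0 := congrArg (Sheaf.H.equiv₀ L (EtCore.topIsTerminal c.pt)) hy
    rw [equiv₀_HLim, map_zero] at h0
    have h1 : toLim c P i (EtCoh.top (D.obj i))
        (Sheaf.H.equiv₀ ((res D i).obj P) (EtCore.topIsTerminal (D.obj i)) y) = 0 :=
      (ConcreteCategory.bijective_of_isIso (L.obj.map (EtCore.bcTopIso (c.π.app i)).inv.op)).1
        (h0.trans (map_zero _).symm)
    haveI : CompactSpace (EtCoh.top (D.obj i)).left := inferInstanceAs (CompactSpace (D.obj i))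
    obtain ⟨k, a, ha⟩ := sect_zero c P hc (EtCoh.top (D.obj i)) _ h1
    refine ⟨k, a, (Sheaf.H.equiv₀ _ (EtCore.topIsTerminal (D.obj k))).injective ?_⟩
    rw [equiv₀_HT, map_zero, ← incl_bcTopIso_inv a]
    refine (Functor.map_comp_apply P.obj _ _ _).trans ?_
    exact (congrArg (P.obj.map ((incl k).map (EtCore.bcTopIso (D.map a)).inv).op) ha).trans (map_zero _)

include hc in
/-- Cohomology of the limit is the colimit of the cohomology of the members. -/
theorem surj_inj : ∀ (n : ℕ) (P : Sys D),
    (∀ x : Sheaf.H ((limSheaf c).obj P) n, ∃ (k : I) (y : Sheaf.H ((res D k).obj P) n),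
      HLim c P k n y = x) ∧
    (∀ (i : I) (y : Sheaf.H ((res D i).obj P) n), HLim c P i n y = 0 →
      ∃ (k : I) (a : k ⟶ i), HT P a n y = 0) := by
  haveI : ∀ (p r : I) (f : p ⟶ r), IsAffineHom (D.map f) := fun p r f => inferInstance
  obtain ⟨i₀⟩ := (IsCofiltered.nonempty : Nonempty I)
  haveI : CompactSpace c.pt := Scheme.compactSpace_of_isLimit D c hc
  haveI : QuasiSeparatedSpace c.pt := by
    haveI := isAffineHom_π_app D c hc i₀
    exact quasiSeparatedSpace_of_quasiSeparated (c.π.app i₀)
  intro n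
  induction n with
  | zero => exact base_case c hc
  | succ n ih =>
    intro P
    obtain ⟨S, rfl, hS, hG⟩ := exists_shortExact P
    let hL := hS.map_of_exact (limSheaf c)
    haveI : Subsingleton (Sheaf.H (S.map (limSheaf c)).X₂ (n + 1)) :=
      H18Et.QCAc.subsingleton_H n _ (isQCAcyclic_limSheaf c hc S.X₂ hG)
    refine ⟨fun x => ?_, fun i a ha => ?_⟩
    · obtain ⟨y, rfl⟩ := Ext.covariant_sequence_exact₁ _ hL x (Subsingleton.elim _ _) rfl
      obtain ⟨k, z, rfl⟩ := (ih S.X₃).1 y
      exact ⟨k, dlt hS k z, natPull_extClass (X := c.pt) (c.π.app k) (res D k) (limSheaf c) (coproj c k) hS n z⟩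
    · obtain ⟨b, rfl⟩ := exists_dlt hS hG i a
      obtain ⟨w, hw⟩ := Ext.covariant_sequence_exact₃ _ hL (HLim c S.X₃ i n b) rfl
        ((natPull_extClass (X := c.pt) (c.π.app i) (res D i) (limSheaf c) (coproj c i) hS n b).symm.trans ha)
      replace hw : Sheaf.H.map ((limSheaf c).map S.g) n w = HLim c S.X₃ i n b := hw
      obtain ⟨j, w', hw'⟩ := (ih S.X₂).1 w
      let k := IsCofiltered.min i j
      let p : k ⟶ i := IsCofiltered.minToLeft i j
      let q : k ⟶ j := IsCofiltered.minToRight i j
      let b' := HT S.X₃ p n b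
      let w'' := HT S.X₂ q n w'
      have hz : HLim c S.X₃ k n (b' - Sheaf.H.map ((res D k).map S.g) n w'') = 0 := by
        rw [map_sub, sub_eq_zero]
        refine (HLim_HT c n S.X₃ p b).trans (hw.symm.trans ?_)
        refine (congrArg (Sheaf.H.map ((limSheaf c).map S.g) n)
          (hw'.symm.trans (HLim_HT c n S.X₂ q w').symm)).trans ?_
        exact (natPull_map (X := c.pt) (c.π.app k) (res D k) (limSheaf c) (coproj c k) S.g n w'').symm
      obtain ⟨l, r, hr⟩ := (ih S.X₃).2 k _ hz
      rw [map_sub, sub_eq_zero] at hr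
      refine ⟨l, r ≫ p, ?_⟩
      refine (natPull_extClass (D.map (r ≫ p)) (res D i) (res D l) (trans (r ≫ p)) hS n b).trans ?_
      have h3 : natPull (D.map (r ≫ p)) (res D i) (res D l) (trans (r ≫ p)) S.X₃ n b =
          Sheaf.H.map ((res D l).map S.g) n (HT S.X₂ r n w'') :=
        ((HT_comp n S.X₃ p r b).symm.trans hr).trans
          (natPull_map (D.map r) (res D k) (res D l) (trans r) S.g n w'')
      rw [h3, Sheaf.H.map_apply]
      refine (Ext.comp_assoc_of_second_deg_zero _ _ _ _).trans ?_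
      exact (congrArg (fun e => Ext.comp (HT S.X₂ r n w'') e rfl)
        (hS.map_of_exact (res D l)).comp_extClass).trans (Ext.comp_zero _ _ _ _ _)

end Groth.Agent.H1Lim
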