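import Groth.Agent.H18Et.Germ
import Groth.Agent.H18Et.UnitZero

/-!
# Germs of filtered colimits and of inverse images
-/

set_option autoImplicit false
set_option backward.isDefEq.respectTransparency false
set_option backward.isDefEq.respectTransparency.types false

universe u w

open CategoryTheory CategoryTheory.Limits AlgebraicGeometry Opposite

namespace Groth.Agent.H1Lim

open scoped Groth.Agent.H18Et
open Groth.Agent.H18Et

theorem nat_iso_inv_surjective {C : Type*} [Category C] {A B : C ⥤ AddCommGrpCat.{w}} (α : A ≅ B)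
    (X : C) (x : A.obj X) : ∃ p : B.obj X, α.inv.app X p = x :=
  ⟨α.hom.app X x, ConcreteCategory.congr_hom (α.hom_inv_id_app X) x⟩

theorem nat_iso_inv_eq_zero {C : Type*} [Category C] {A B : C ⥤ AddCommGrpCat.{w}} (α : A ≅ B)
    (X : C) (x : B.obj X) (h : α.inv.app X x = 0) : x = 0 :=
  (ConcreteCategory.congr_hom (α.inv_hom_id_app X) x).symm.trans
    ((congrArg (α.hom.app X) h).trans (map_zero _))

variable {X Y : Scheme.{u}} {Ω : Type u} [Field Ω] [IsSepClosed Ω]
  (ξ : Spec (CommRingCat.of Ω) ⟶ X)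

section Colim

variable {J : Type w} [SmallCategory J] [IsFiltered J]
  [PreservesColimitsOfShape J (CategoryTheory.forget AddCommGrpCat.{u + 1})]
  {G : J ⥤ EtCoh.Ab X} {c : Cocone G} (hc : IsColimit c)

/-- Stalks commute with colimits. -/
noncomputable def isColimitStalkMap : IsColimit ((EtCoh.stalk ξ).mapCocone c) :=
  haveI := ((Scheme.pointSmallEtale ξ).skyscraperSheafAdjunction
    (A := AddCommGrpCat.{u + 1})).leftAdjoint_preservesColimits
  isColimitOfPreserves _ hc

include hc in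
theorem stalk_colim_surj (p : ToType ((EtCoh.stalk ξ).obj c.pt)) :
    ∃ (j : J) (q : ToType ((EtCoh.stalk ξ).obj (G.obj j))), (EtCoh.stalk ξ).map (c.ι.app j) q = p := by
  obtain ⟨j, q, hq⟩ := Types.jointly_surjective_of_isColimit
    (isColimitOfPreserves (CategoryTheory.forget AddCommGrpCat.{u + 1}) (isColimitStalkMap ξ hc)) p
  exact ⟨j, q, hq⟩

include hc in
theorem germ_colim_zero {j : J} {U : X.Etale} (y : (Scheme.pointSmallEtale ξ).fiber.obj U)
    (s : EtCoh.sect (G.obj j) U) (hs : germ ξ c.pt U y ((c.ι.app j).hom.app (op U) s) = 0) :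
    ∃ (k : J) (f : j ⟶ k), germ ξ (G.obj k) U y ((G.map f).hom.app (op U) s) = 0 := by
  have h1 : (EtCoh.stalk ξ).map (c.ι.app j) (germ ξ (G.obj j) U y s) =
      (EtCoh.stalk ξ).map (c.ι.app j) 0 :=
    (germ_naturality ξ (c.ι.app j) U y s).trans (hs.trans (map_zero _).symm)
  obtain ⟨k, f, hf⟩ := (Types.FilteredColimit.isColimit_eq_iff'
    (isColimitOfPreserves (CategoryTheory.forget AddCommGrpCat.{u + 1}) (isColimitStalkMap ξ hc))
    (germ ξ (G.obj j) U y s) (0 : ToType ((EtCoh.stalk ξ).obj (G.obj j)))).1 h1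
  refine ⟨k, f, (germ_naturality ξ (G.map f) U y s).symm.trans ?_⟩
  exact (show (EtCoh.stalk ξ).map (G.map f) (germ ξ (G.obj j) U y s) =
    (EtCoh.stalk ξ).map (G.map f) 0 from hf).trans (map_zero _)

end Colim

variable (f : X ⟶ Y) (G : EtCoh.Ab Y)

/-- Every germ of an inverse image is the germ of an inverse image of a section. -/
theorem germ_pull_surj (q : ToType ((EtCoh.stalk ξ).obj ((EtCoh.pull f).obj G))) :
    ∃ (W : Y.Etale) (y : (Scheme.pointSmallEtale ξ).fiber.obj ((EtCoh.bc f).obj W))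
      (s : EtCoh.sect G W), germ ξ ((EtCoh.pull f).obj G) ((EtCoh.bc f).obj W) y
        (((EtCoh.pullPushAdj f).unit.app G).hom.app (op W) s) = q := by
  obtain ⟨p, hp⟩ := nat_iso_inv_surjective (stalkPullIso f ξ) G q
  obtain ⟨W, z, s, hs⟩ := germ_surjective (ξ ≫ f) G p
  refine ⟨W, (fiberCompIso f ξ).inv.app W z, s, ?_⟩
  refine (stalkPullIso_inv_germ f ξ G W z s).symm.trans ?_
  exact (congrArg ((stalkPullIso f ξ).inv.app G) hs).trans hp

/-- An inverse image of a section with vanishing germ is killed near the image point. -/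
theorem germ_pull_zero {U : Y.Etale} (y : (Scheme.pointSmallEtale ξ).fiber.obj ((EtCoh.bc f).obj U))
    (s : EtCoh.sect G U) (h : germ ξ ((EtCoh.pull f).obj G) ((EtCoh.bc f).obj U) y
      (((EtCoh.pullPushAdj f).unit.app G).hom.app (op U) s) = 0) :
    ∃ (V : Y.Etale) (g : V ⟶ U) (y' : (Scheme.pointSmallEtale ξ).fiber.obj ((EtCoh.bc f).obj V)),
      (Scheme.pointSmallEtale ξ).fiber.map ((EtCoh.bc f).map g) y' = y ∧ G.obj.map g.op s = 0 := by
  let z := (fiberCompIso f ξ).hom.app U y
  have hy : (fiberCompIso f ξ).inv.app U z = y := iso_inv_hom_apply (fiberCompIso f ξ) U y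
  have h1 := (stalkPullIso_inv_germ f ξ G U z s).trans ((congrArg (fun w =>
    germ ξ ((EtCoh.pull f).obj G) ((EtCoh.bc f).obj U) w
      (((EtCoh.pullPushAdj f).unit.app G).hom.app (op U) s)) hy).trans h)
  have h2 : germ (ξ ≫ f) G U z s = 0 := nat_iso_inv_eq_zero (stalkPullIso f ξ) G _ h1
  obtain ⟨V, g, z', hz', he⟩ := (germ_eq_iff (ξ ≫ f) G U z s 0).1 (h2.trans (map_zero _).symm)
  refine ⟨V, g, (fiberCompIso f ξ).inv.app V z', ?_, he.trans (map_zero _)⟩
  have hn := ConcreteCategory.congr_hom ((fiberCompIso f ξ).inv.naturality g) z'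
  simp only [CategoryTheory.comp_apply, Functor.comp_map] at hn
  exact hn.symm.trans ((congrArg (fun w => (fiberCompIso f ξ).inv.app U w) hz').trans hy)

end Groth.Agent.H1Lim
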