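import Groth.Agent.H1Lim.System
import Groth.Agent.H1Lim.GermTools

/-!
# Germs of the limit sheaf
-/

set_option autoImplicit false
set_option backward.isDefEq.respectTransparency false
set_option backward.isDefEq.respectTransparency.types false

universe u

open CategoryTheory CategoryTheory.Limits AlgebraicGeometry Opposite

namespace Groth.Agent.H1Lim

open scoped Groth.Agent.H18Et Groth.Agent.H18Et.CohColim
open Groth.Agent.H18Et

variable {I : Type u} [SmallCategory I] [IsCofiltered I] {D : I ⥤ Scheme.{u}} (c : Cone D)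
variable {Ω : Type u} [Field Ω] [IsSepClosed Ω] (ξ : Spec (CommRingCat.of Ω) ⟶ c.pt)

/-- The fibre functor on the vertex. -/
noncomputable abbrev fib : c.pt.Etale ⥤ Type u := (Scheme.pointSmallEtale ξ).fiber

/-- Every germ of the limit sheaf comes from a member. -/
theorem germ_surj (P : Sys D) (p : ToType ((EtCoh.stalk ξ).obj ((limSheaf c).obj P))) :
    ∃ (k : I) (W : (D.obj k).Etale) (y : (fib c ξ).obj ((toCone c).obj ((incl k).obj W)))
      (s : EtCoh.sect ((res D k).obj P) W),
      germ ξ ((limSheaf c).obj P) ((toCone c).obj ((incl k).obj W)) y (toLim c P k W s) = p := by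
  obtain ⟨j, q, hq⟩ := stalk_colim_surj ξ (colimit.isColimit ((diag c).obj P)) p
  obtain ⟨W, y, s, hs⟩ := germ_pull_surj ξ (c.π.app j.unop) ((res D j.unop).obj P) q
  refine ⟨j.unop, W, y, s, ?_⟩
  refine (germ_naturality ξ (colimit.ι ((diag c).obj P) j)
    ((toCone c).obj ((incl j.unop).obj W)) y (unitS c P j.unop W s)).symm.trans ?_
  exact (congrArg ((EtCoh.stalk ξ).map (colimit.ι ((diag c).obj P) j)) hs).trans hq

/-- A section whose germ in the limit sheaf vanishes is killed near the point at a later stage. -/
theorem germ_zero (P : Sys D) {i : I} {U : (D.obj i).Etale}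
    (y : (fib c ξ).obj ((toCone c).obj ((incl i).obj U))) (s : EtCoh.sect ((res D i).obj P) U)
    (hs : germ ξ ((limSheaf c).obj P) ((toCone c).obj ((incl i).obj U)) y (toLim c P i U s) = 0) :
    ∃ (k : I) (W : (D.obj k).Etale) (h : (incl k).obj W ⟶ (incl i).obj U)
      (y' : (fib c ξ).obj ((toCone c).obj ((incl k).obj W))),
      (fib c ξ).map ((toCone c).map h) y' = y ∧ P.obj.map h.op s = 0 := by
  obtain ⟨⟨k⟩, f, hf⟩ := germ_colim_zero ξ (colimit.isColimit ((diag c).obj P)) (j := op i) y
    (unitS c P i U s) hs
  let a : k ⟶ i := f.unop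
  let V₀ := (EtCoh.bc (D.map a)).obj U
  let yk := (fib c ξ).map (projInv c a U) y
  have hy : (fib c ξ).map ((toCone c).map (proj a U)) yk = y := by
    refine (Functor.map_comp_apply (fib c ξ) (projInv c a U) ((toCone c).map (proj a U)) y).symm.trans ?_
    exact (congrArg (fun z => (fib c ξ).map z y) (projInv_comp c a U)).trans
      (Functor.map_id_apply (fib c ξ) _ y)
  let t := (delta c P a).hom.app (op ((toCone c).obj ((incl i).obj U))) (unitS c P i U s)
  have hf' : germ ξ ((term c k).obj P) ((toCone c).obj ((incl i).obj U)) y t = 0 := hf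
  have h1 : germ ξ ((term c k).obj P) ((toCone c).obj ((incl k).obj V₀)) yk
      (((term c k).obj P).obj.map ((toCone c).map (proj a U)).op t) = 0 := by
    refine ((Scheme.pointSmallEtale ξ).toPresheafFiber_w_apply ((toCone c).map (proj a U)) yk
      ((term c k).obj P).obj t).trans ?_
    exact (congrArg (fun z => germ ξ ((term c k).obj P) _ z t) hy).trans hf'
  have e : ((term c k).obj P).obj.map ((toCone c).map (proj a U)).op t =
      unitS c P k V₀ (P.obj.map (proj a U).op s) := delta_unitS c P (proj a U) s
  rw [e] at h1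
  obtain ⟨V, g, y', hy', he⟩ := germ_pull_zero ξ (c.π.app k) ((res D k).obj P) (U := V₀) yk
    (P.obj.map (proj a U).op s) h1
  refine ⟨k, V, (incl k).map g ≫ proj a U, y', ?_, ?_⟩
  · refine ((congrArg (fun z => (fib c ξ).map z y') ((toCone c).map_comp _ _)).trans
      (Functor.map_comp_apply (fib c ξ) _ _ y')).trans ?_
    refine (congrArg (fun w => (fib c ξ).map ((toCone c).map (proj a U)) w) ?_).trans hy
    exact (congrArg (fun z => (fib c ξ).map z y') (toCone_incl_map c g)).trans hy'
  · exact (Functor.map_comp_apply P.obj _ _ _).trans he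

end Groth.Agent.H1Lim
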