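import Groth.Agent.H1Lim.Sections
import Groth.Agent.H1Lim.NatPull
import Groth.Agent.H18Et.PullSections
import Groth.Agent.H18Et.StalkSets

/-!
# Transition maps on the cohomology of a system
-/

set_option autoImplicit false
set_option backward.isDefEq.respectTransparency false
set_option backward.isDefEq.respectTransparency.types false

universe u

open CategoryTheory CategoryTheory.Limits AlgebraicGeometry Opposite

namespace Groth.Agent.H1Lim

open scoped Groth.Agent.H18Et Groth.Agent.H18Et.CohColim

attribute [local instance] Groth.Agent.H18Et.pull_preservesFiniteLimits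

variable {I : Type u} [SmallCategory I] {D : I ⥤ Scheme.{u}} (c : Cone D)

instance res_additive (i : I) : (res D i).Additive :=
  Functor.additive_of_preserves_binary_products _

/-- The transition morphisms in adjoint form. -/
noncomputable def pushTrans {i k : I} (a : k ⟶ i) : res D i ⟶ res D k ⋙ EtCoh.push (D.map a) where
  app P := ⟨{ app := fun U => P.obj.map (proj a U.unop).op
              naturality := fun U V g => by
                ext s
                exact map_eq_map P.obj _ _ _ _ (proj_naturality a g.unop).symm s }⟩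
  naturality P Q φ := by
    ext U s
    exact (NatTrans.naturality_apply φ.hom (proj a U.unop).op s).symm

/-- The transition morphisms. -/
noncomputable def trans {i k : I} (a : k ⟶ i) : res D i ⋙ EtCoh.pull (D.map a) ⟶ res D k :=
  Functor.whiskerRight (pushTrans a) (EtCoh.pull (D.map a)) ≫
    Functor.whiskerLeft (res D k) (EtCoh.pullPushAdj (D.map a)).counit

theorem trans_unit {i k : I} (a : k ⟶ i) (P : Sys D) (U : (D.obj i).Etale)
    (s : EtCoh.sect ((res D i).obj P) U) :
    ((trans a).app P).hom.app (op ((EtCoh.bc (D.map a)).obj U))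
        (((EtCoh.pullPushAdj (D.map a)).unit.app ((res D i).obj P)).hom.app (op U) s) =
      P.obj.map (proj a U).op s := by
  have h := ((EtCoh.pullPushAdj (D.map a)).homEquiv _ _).apply_symm_apply ((pushTrans a).app P)
  rw [Adjunction.homEquiv_unit, Adjunction.homEquiv_counit] at h
  exact congrArg (fun φ : (res D i).obj P ⟶ (EtCoh.push (D.map a)).obj ((res D k).obj P) =>
    φ.hom.app (op U) s) h

/-- The transition map on cohomology. -/
noncomputable def HT (P : Sys D) {i k : I} (a : k ⟶ i) (n : ℕ) :
    Sheaf.H ((res D i).obj P) n →+ Sheaf.H ((res D k).obj P) n :=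
  natPull (D.map a) (res D i) (res D k) (trans a) P n

/-- The object `X_k` of its own site, in the total category. -/
noncomputable abbrev topObj (k : I) : Tot D := (incl k).obj (EtCoh.top (D.obj k))

/-- The morphism of final objects over a transition map. -/
noncomputable def topHom {i k : I} (a : k ⟶ i) : topObj (D := D) k ⟶ topObj i :=
  ⟨a, D.map a, (Category.comp_id _).trans (Category.id_comp _).symm⟩

theorem topHom_comp {i k l : I} (a : k ⟶ i) (b : l ⟶ k) :
    topHom (D := D) b ≫ topHom a = topHom (b ≫ a) :=
  Tot.hom_ext rfl (D.map_comp b a).symm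

theorem incl_bcTopIso_inv {i k : I} (a : k ⟶ i) :
    (incl k).map (EtCore.bcTopIso (D.map a)).inv ≫ proj a (EtCoh.top (D.obj i)) = topHom a := by
  have h : (EtCore.bcTopIso (D.map a)).inv =
      fibPart (W := EtCoh.top (D.obj k)) (U := EtCoh.top (D.obj i)) (topHom a) :=
    (EtCore.bcTopIsTerminal (D.map a)).hom_ext _ _
  rw [h]
  exact fibPart_proj (W := EtCoh.top (D.obj k)) (U := EtCoh.top (D.obj i)) (topHom a)

theorem equiv₀_HT (P : Sys D) {i k : I} (a : k ⟶ i) (y : Sheaf.H ((res D i).obj P) 0) :
    Sheaf.H.equiv₀ ((res D k).obj P) (EtCore.topIsTerminal (D.obj k)) (HT P a 0 y) =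
      P.obj.map (topHom a).op (Sheaf.H.equiv₀ ((res D i).obj P) (EtCore.topIsTerminal (D.obj i)) y) := by
  show Sheaf.H.equiv₀ _ _ (Sheaf.H.map ((trans a).app P) 0 (hpull (D.map a) ((res D i).obj P) 0 y)) = _
  rw [← Sheaf.H.equiv₀_naturality]
  refine (congrArg (((trans a).app P).hom.app _) (H18Et.PullSections.equiv₀_Hpull _ _ y)).trans ?_
  refine (NatTrans.naturality_apply ((trans a).app P).hom (EtCore.bcTopIso (D.map a)).inv.op _).trans ?_
  refine (congrArg (((res D k).obj P).obj.map (EtCore.bcTopIso (D.map a)).inv.op)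
    (trans_unit a P (EtCoh.top (D.obj i)) _)).trans ?_
  refine (Functor.map_comp_apply P.obj _ _ _).symm.trans ?_
  exact congrArg (fun z => P.obj.map (Quiver.Hom.op z) _) (incl_bcTopIso_inv a)

variable [IsCofiltered I]

instance term_preservesFiniteLimits (k : I) : PreservesFiniteLimits (term c k) :=
  comp_preservesFiniteLimits _ _

instance term_preservesFiniteColimits (k : I) : PreservesFiniteColimits (term c k) :=
  haveI := (EtCoh.pullPushAdj (c.π.app k)).leftAdjoint_preservesColimits
  comp_preservesFiniteColimits _ _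

instance diag_preservesFiniteLimits : PreservesFiniteLimits (diag c) :=
  preservesFiniteLimits_of_evaluation _ fun j =>
    inferInstanceAs (PreservesFiniteLimits (term c j.unop))

instance diag_preservesFiniteColimits : PreservesFiniteColimits (diag c) :=
  preservesFiniteColimits_of_evaluation _ fun j =>
    inferInstanceAs (PreservesFiniteColimits (term c j.unop))

instance limSheaf_preservesFiniteLimits : PreservesFiniteLimits (limSheaf c) :=
  haveI : PreservesFiniteLimits (colim : (Iᵒᵖ ⥤ EtCoh.Ab c.pt) ⥤ EtCoh.Ab c.pt) := inferInstance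
  comp_preservesFiniteLimits (diag c) colim

instance limSheaf_preservesFiniteColimits : PreservesFiniteColimits (limSheaf c) :=
  haveI : PreservesFiniteColimits (colim : (Iᵒᵖ ⥤ EtCoh.Ab c.pt) ⥤ EtCoh.Ab c.pt) :=
    haveI := (colimConstAdj (J := Iᵒᵖ) (C := EtCoh.Ab c.pt)).leftAdjoint_preservesColimits
    inferInstance
  comp_preservesFiniteColimits (diag c) colim

instance limSheaf_additive : (limSheaf c).Additive := Functor.additive_of_preserves_binary_products _

/-- The coprojections. -/
noncomputable def coproj (k : I) : res D k ⋙ EtCoh.pull (c.π.app k) ⟶ limSheaf c where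
  app P := colimit.ι ((diag c).obj P) (op k)
  naturality P Q φ := (ι_colimMap ((diag c).map φ) (op k)).symm

/-- The map to the cohomology of the limit. -/
noncomputable def HLim (P : Sys D) (k : I) (n : ℕ) :
    Sheaf.H ((res D k).obj P) n →+ Sheaf.H ((limSheaf c).obj P) n :=
  natPull (c.π.app k) (res D k) (limSheaf c) (coproj c k) P n

theorem equiv₀_HLim (P : Sys D) (k : I) (y : Sheaf.H ((res D k).obj P) 0) :
    Sheaf.H.equiv₀ ((limSheaf c).obj P) (EtCore.topIsTerminal c.pt) (HLim c P k 0 y) =
      ((limSheaf c).obj P).obj.map (EtCore.bcTopIso (c.π.app k)).inv.op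
        (toLim c P k (EtCoh.top (D.obj k))
          (Sheaf.H.equiv₀ ((res D k).obj P) (EtCore.topIsTerminal (D.obj k)) y)) := by
  show Sheaf.H.equiv₀ _ _ (Sheaf.H.map ((coproj c k).app P) 0 (hpull (c.π.app k) ((res D k).obj P) 0 y)) = _
  rw [← Sheaf.H.equiv₀_naturality]
  refine (congrArg (((coproj c k).app P).hom.app _) (H18Et.PullSections.equiv₀_Hpull _ _ y)).trans ?_
  exact NatTrans.naturality_apply ((coproj c k).app P).hom (EtCore.bcTopIso (c.π.app k)).inv.op _

theorem equiv₀_HLim_HT (P : Sys D) {i k : I} (a : k ⟶ i) (y : Sheaf.H ((res D i).obj P) 0) :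
    HLim c P k 0 (HT P a 0 y) = HLim c P i 0 y := by
  apply (Sheaf.H.equiv₀ _ (EtCore.topIsTerminal c.pt)).injective
  rw [equiv₀_HLim, equiv₀_HLim, equiv₀_HT]
  refine (congrArg (((limSheaf c).obj P).obj.map (EtCore.bcTopIso (c.π.app k)).inv.op)
    (toLim_naturality c P (topHom a) _).symm).trans ?_
  refine (Functor.map_comp_apply _ _ _ _).symm.trans ?_
  exact congrArg (fun z => ((limSheaf c).obj P).obj.map z (toLim c P i (EtCoh.top (D.obj i)) _))
    (congrArg Quiver.Hom.op ((EtCore.bcTopIsTerminal (c.π.app i)).hom_ext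
      ((EtCore.bcTopIso (c.π.app k)).inv ≫ (toCone c).map (topHom a)) (EtCore.bcTopIso (c.π.app i)).inv))

end Groth.Agent.H1Lim
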