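import Groth.Agent.H1Lim.PullPsi
import Groth.Agent.H1Lim.Cohomology

/-!
# Systems given by sheaves and transition maps
-/

set_option autoImplicit false
set_option backward.isDefEq.respectTransparency false
set_option backward.isDefEq.respectTransparency.types false

universe u

open CategoryTheory CategoryTheory.Limits AlgebraicGeometry Opposite

namespace Groth.Agent.H1Lim

open scoped Groth.Agent.H18Et Groth.Agent.H18Et.CohColim

attribute [local instance] Groth.Agent.H18Et.pull_preservesFiniteLimits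

variable {I : Type u} [SmallCategory I]

/-- Sheaves on the members with transition maps. -/
structure SysData (D : I ⥤ Scheme.{u}) where
  /-- The sheaves. -/
  F : ∀ i, EtCoh.Ab (D.obj i)
  /-- The transition maps, in adjoint form. -/
  ψ : ∀ {i k : I} (a : k ⟶ i), F i ⟶ (EtCoh.push (D.map a)).obj (F k)
  ψ_id : ∀ (i : I) (j : ∀ V : (D.obj i).Etale, V ⟶ (EtCoh.bc (D.map (𝟙 i))).obj V),
    (∀ V, (j V).left ≫ pullback.fst V.hom (D.map (𝟙 i)) = 𝟙 _) →
      ∀ (V : (D.obj i).Etale) (s : (F i).obj.obj (op V)),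
        (F i).obj.map (j V).op ((ψ (𝟙 i)).hom.app (op V) s) = s
  ψ_comp : ∀ {i k l : I} (a : k ⟶ i) (b : l ⟶ k)
    (μ : ∀ V : (D.obj i).Etale,
      (EtCoh.bc (D.map b)).obj ((EtCoh.bc (D.map a)).obj V) ⟶ (EtCoh.bc (D.map (b ≫ a))).obj V),
    (∀ V, (μ V).left ≫ pullback.fst V.hom (D.map (b ≫ a)) =
      pullback.fst ((EtCoh.bc (D.map a)).obj V).hom (D.map b) ≫ pullback.fst V.hom (D.map a)) →
      ∀ (V : (D.obj i).Etale) (s : (F i).obj.obj (op V)),
        (ψ b).hom.app (op ((EtCoh.bc (D.map a)).obj V)) ((ψ a).hom.app (op V) s) =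
          (F l).obj.map (μ V).op ((ψ (b ≫ a)).hom.app (op V) s)

variable {D : I ⥤ Scheme.{u}} (Q : SysData D)

/-- Build `SysData` from explicit families. -/
noncomputable def SysData.ofFamilies (F : ∀ i, EtCoh.Ab (D.obj i))
    (ψ : ∀ (i k : I) (a : k ⟶ i), F i ⟶ (EtCoh.push (D.map a)).obj (F k))
    (hid : ∀ (i : I) (j : ∀ V : (D.obj i).Etale, V ⟶ (EtCoh.bc (D.map (𝟙 i))).obj V),
      (∀ V, (j V).left ≫ pullback.fst V.hom (D.map (𝟙 i)) = 𝟙 _) →
        ∀ (V : (D.obj i).Etale) (s : (F i).obj.obj (op V)),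
          (F i).obj.map (j V).op ((ψ i i (𝟙 i)).hom.app (op V) s) = s)
    (hcomp : ∀ (i k l : I) (a : k ⟶ i) (b : l ⟶ k)
      (μ : ∀ V : (D.obj i).Etale,
        (EtCoh.bc (D.map b)).obj ((EtCoh.bc (D.map a)).obj V) ⟶ (EtCoh.bc (D.map (b ≫ a))).obj V),
      (∀ V, (μ V).left ≫ pullback.fst V.hom (D.map (b ≫ a)) =
        pullback.fst ((EtCoh.bc (D.map a)).obj V).hom (D.map b) ≫ pullback.fst V.hom (D.map a)) →
        ∀ (V : (D.obj i).Etale) (s : (F i).obj.obj (op V)),
          (ψ k l b).hom.app (op ((EtCoh.bc (D.map a)).obj V)) ((ψ i k a).hom.app (op V) s) =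
            (F l).obj.map (μ V).op ((ψ i l (b ≫ a)).hom.app (op V) s)) : SysData D where
  F := F
  ψ {i k} a := ψ i k a
  ψ_id := hid
  ψ_comp {i k l} a b := hcomp i k l a b

namespace SysData

theorem fibPart_fst {A B : Tot D} (h : A ⟶ B) :
    (fibPart (W := A.U) (U := B.U) h).left ≫ pullback.fst B.U.hom (D.map h.base) = h.top :=
  pullback.lift_fst _ _ _

/-- Restriction of sections along a morphism of the total category. -/
noncomputable def map {A B : Tot D} (h : A ⟶ B) :
    (Q.F B.idx).obj.obj (op B.U) ⟶ (Q.F A.idx).obj.obj (op A.U) :=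
  (Q.ψ h.base).hom.app (op B.U) ≫ (Q.F A.idx).obj.map (fibPart (W := A.U) (U := B.U) h).op

theorem map_id (A : Tot D) (s : (Q.F A.idx).obj.obj (op A.U)) : Q.map (𝟙 A) s = s :=
  Q.ψ_id A.idx (fun V => fibPart (W := V) (U := V) (𝟙 ((incl A.idx).obj V)))
    (fun V => fibPart_fst (𝟙 ((incl A.idx).obj V))) A.U s

theorem map_comp {A B E : Tot D} (g : A ⟶ B) (h : B ⟶ E)
    (s : (Q.F E.idx).obj.obj (op E.U)) : Q.map (g ≫ h) s = Q.map g (Q.map h s) := by
  let T := Q.F A.idx
  let μ : ∀ V : (D.obj E.idx).Etale,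
      (EtCoh.bc (D.map g.base)).obj ((EtCoh.bc (D.map h.base)).obj V) ⟶
        (EtCoh.bc (D.map (g.base ≫ h.base))).obj V := fun V =>
    MorphismProperty.Over.homMk (pullback.lift
      (pullback.fst ((EtCoh.bc (D.map h.base)).obj V).hom (D.map g.base) ≫ pullback.fst V.hom (D.map h.base))
      (pullback.snd ((EtCoh.bc (D.map h.base)).obj V).hom (D.map g.base))
      (by rw [Category.assoc, pullback.condition, D.map_comp]
          exact (Category.assoc _ _ _).symm.trans ((congrArg (· ≫ D.map h.base) pullback.condition).trans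
            (Category.assoc _ _ _))))
      (pullback.lift_snd _ _ _) trivial
  have key := Q.ψ_comp h.base g.base μ (fun V => pullback.lift_fst _ _ _) E.U s
  let P := (Q.ψ h.base).hom.app (op E.U) s
  show T.obj.map (fibPart (W := A.U) (U := E.U) (g ≫ h)).op ((Q.ψ (g.base ≫ h.base)).hom.app (op E.U) s) =
    T.obj.map (fibPart (W := A.U) (U := B.U) g).op ((Q.ψ g.base).hom.app (op B.U)
      ((Q.F B.idx).obj.map (fibPart (W := B.U) (U := E.U) h).op P))
  refine Eq.symm ((congrArg (T.obj.map (fibPart (W := A.U) (U := B.U) g).op)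
    ((NatTrans.naturality_apply (Q.ψ g.base).hom (fibPart (W := B.U) (U := E.U) h).op P).trans
      (congrArg (T.obj.map ((EtCoh.bc (D.map g.base)).map (fibPart (W := B.U) (U := E.U) h)).op) key))).trans ?_)
  refine ((Functor.map_comp_apply T.obj _ _ _).symm.trans (Functor.map_comp_apply T.obj _ _ _).symm).trans ?_
  refine congrArg (fun z => T.obj.map z ((Q.ψ (g.base ≫ h.base)).hom.app (op E.U) s))
    (congrArg Quiver.Hom.op (a₁ := (fibPart (W := A.U) (U := B.U) g ≫
      (EtCoh.bc (D.map g.base)).map (fibPart (W := B.U) (U := E.U) h)) ≫ μ E.U) ?_)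
  refine bc_hom_ext _ ?_
  show ((_ ≫ ((EtCoh.bc (D.map g.base)).map (fibPart (W := B.U) (U := E.U) h)).left) ≫ (μ E.U).left) ≫ _ = _
  refine Eq.trans ?_ (fibPart_fst (g ≫ h)).symm
  simp only [Category.assoc]
  erw [pullback.lift_fst]
  erw [← Category.assoc (((EtCoh.bc (D.map g.base)).map _).left), pullback.lift_fst, Category.assoc, fibPart_fst h]
  exact (Category.assoc _ _ _).symm.trans (congrArg (· ≫ h.top) (fibPart_fst g))

/-- The underlying presheaf. -/
noncomputable def presheaf : (Tot D)ᵒᵖ ⥤ AddCommGrpCat.{u + 1} where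
  obj A := (Q.F A.unop.idx).obj.obj (op A.unop.U)
  map h := Q.map h.unop
  map_id A := by ext s; exact Q.map_id A.unop s
  map_comp g h := by ext s; exact Q.map_comp h.unop g.unop s

theorem map_incl {i : I} {V U : (D.obj i).Etale} (g : V ⟶ U) (s : (Q.F i).obj.obj (op U)) :
    Q.map ((incl i).map g) s = (Q.F i).obj.map g.op s := by
  show (Q.F i).obj.map (fibPart (W := V) (U := U) ((incl i).map g)).op
    ((Q.ψ (𝟙 i)).hom.app (op U) s) = _
  refine Eq.trans ?_ (congrArg ((Q.F i).obj.map g.op) (Q.map_id ((incl i).obj U) s))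
  refine Eq.trans ?_ (Functor.map_comp_apply _ _ _ _)
  refine congrArg (fun z => (Q.F i).obj.map z _) (congrArg Quiver.Hom.op
    (a₂ := g ≫ fibPart (W := U) (U := U) (𝟙 ((incl i).obj U))) (bc_hom_ext _ ?_))
  refine (fibPart_fst ((incl i).map g)).trans ?_
  exact ((Category.assoc _ _ _).trans ((congrArg (g.left ≫ ·) (fibPart_fst (𝟙 ((incl i).obj U)))).trans
    (Category.comp_id _))).symm

/-- The restriction of the presheaf to a fibre. -/
noncomputable def fibIso (i : I) : (incl i).op ⋙ Q.presheaf ≅ (Q.F i).obj :=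
  NatIso.ofComponents (fun U => Iso.refl _) fun {U V} g => by
    ext s
    exact Q.map_incl g.unop s

/-- The system. -/
noncomputable def toSys : Sys D :=
  ⟨Q.presheaf, (Presheaf.isSheaf_iff_isSheaf_forget _ _ (forget _)).2 (by
    rw [isSheaf_iff_isSheaf_of_type]
    refine isSheaf_of_fibres _ fun i => ?_
    rw [← isSheaf_iff_isSheaf_of_type]
    have h : Presheaf.IsSheaf (D.obj i).smallEtaleTopology ((incl i).op ⋙ Q.presheaf) :=
      (Presheaf.isSheaf_of_iso_iff (Q.fibIso i)).2 (Q.F i).property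
    exact (Presheaf.isSheaf_iff_isSheaf_forget _ _ (forget _)).1 h)⟩

/-- Its members. -/
noncomputable def resIso (i : I) : (res D i).obj Q.toSys ≅ Q.F i :=
  (fullyFaithfulSheafToPresheaf _ _).preimageIso (Q.fibIso i)

theorem map_proj {i k : I} (a : k ⟶ i) (U : (D.obj i).Etale) (s : (Q.F i).obj.obj (op U)) :
    Q.map (proj a U) s = (Q.ψ a).hom.app (op U) s := by
  show (Q.F k).obj.map (fibPart (W := (EtCoh.bc (D.map a)).obj U) (U := U) (proj a U)).op _ = _
  rw [show fibPart (W := (EtCoh.bc (D.map a)).obj U) (U := U) (proj a U) = 𝟙 _ from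
    bc_hom_ext (D.map a) ((fibPart_fst (proj a U)).trans (Category.id_comp _).symm)]
  exact Functor.map_id_apply _ _ _

theorem unit_map {X Y : Scheme.{u}} (f : X ⟶ Y) {F F' : EtCoh.Ab Y} (φ : F ⟶ F') (U : Y.Etale)
    (s : F.obj.obj (op U)) :
    ((EtCoh.pull f).map φ).hom.app (op ((EtCoh.bc f).obj U)) (secUnit f F U s) =
      secUnit f F' U (φ.hom.app (op U) s) :=
  (congrArg (fun m : F ⟶ (EtCoh.push f).obj ((EtCoh.pull f).obj F') => m.hom.app (op U) s)
    ((EtCoh.pullPushAdj f).unit.naturality φ)).symm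

theorem homEquiv_symm_unit {X Y : Scheme.{u}} (f : X ⟶ Y) {F : EtCoh.Ab Y} {T : EtCoh.Ab X}
    (χ : F ⟶ (EtCoh.push f).obj T) (U : Y.Etale) (s : F.obj.obj (op U)) :
    (((EtCoh.pullPushAdj f).homEquiv F T).symm χ).hom.app (op ((EtCoh.bc f).obj U)) (secUnit f F U s) =
      χ.hom.app (op U) s := by
  have h := ((EtCoh.pullPushAdj f).homEquiv F T).apply_symm_apply χ
  rw [Adjunction.homEquiv_unit] at h
  exact congrArg (fun m : F ⟶ (EtCoh.push f).obj T => m.hom.app (op U) s) h

theorem trans_toSys {i k : I} (a : k ⟶ i) :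
    (trans a).app Q.toSys ≫ (Q.resIso k).hom =
      (EtCoh.pull (D.map a)).map (Q.resIso i).hom ≫
        ((EtCoh.pullPushAdj (D.map a)).homEquiv _ _).symm (Q.ψ a) := by
  refine pull_hom_ext (D.map a) fun U s => ?_
  refine ((trans_unit a Q.toSys U s).trans (Q.map_proj a U s)).trans ?_
  refine Eq.trans (homEquiv_symm_unit (D.map a) (Q.ψ a) U s).symm ?_
  exact congrArg _ (unit_map (D.map a) (Q.resIso i).hom U s).symm

variable (c : Cone D) {T : EtCoh.Ab c.pt}

/-- The map from a member to a sheaf on the vertex. -/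
noncomputable def termMap (χ : ∀ k, Q.F k ⟶ (EtCoh.push (c.π.app k)).obj T) (k : I) :
    (term c k).obj Q.toSys ⟶ T :=
  (EtCoh.pull (c.π.app k)).map (Q.resIso k).hom ≫ ((EtCoh.pullPushAdj (c.π.app k)).homEquiv _ _).symm (χ k)

variable (χ : ∀ k, Q.F k ⟶ (EtCoh.push (c.π.app k)).obj T)

theorem termMap_unitS (k : I) (W : (D.obj k).Etale) (s : (Q.F k).obj.obj (op W)) :
    (Q.termMap c χ k).hom.app _ (unitS c Q.toSys k W s) = (χ k).hom.app (op W) s :=
  (congrArg ((((EtCoh.pullPushAdj (c.π.app k)).homEquiv _ _).symm (χ k)).hom.app _)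
    (unit_map (c.π.app k) (Q.resIso k).hom W s)).trans (homEquiv_symm_unit (c.π.app k) (χ k) W s)

variable (hχ : ∀ {i k : I} (a : k ⟶ i) (U : (D.obj i).Etale) (s : (Q.F i).obj.obj (op U)),
    (χ k).hom.app (op ((EtCoh.bc (D.map a)).obj U)) ((Q.ψ a).hom.app (op U) s) =
      T.obj.map ((toCone c).map (proj a U)).op ((χ i).hom.app (op U) s))

include hχ in
theorem delta_termMap {i k : I} (a : k ⟶ i) :
    delta c Q.toSys a ≫ Q.termMap c χ k = Q.termMap c χ i := by
  refine term_hom_ext c fun U s => ?_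
  apply sect_map_injective c T (proj a U)
  show T.obj.map _ ((Q.termMap c χ k).hom.app _ ((delta c Q.toSys a).hom.app _ (unitS c _ i U s))) = _
  refine (NatTrans.naturality_apply (Q.termMap c χ k).hom ((toCone c).map (proj a U)).op _).symm.trans ?_
  refine (congrArg _ (delta_unitS c Q.toSys (proj a U) s)).trans ?_
  refine (Q.termMap_unitS c χ k _ _).trans ?_
  refine (congrArg ((χ k).hom.app _) (Q.map_proj a U s)).trans ?_
  exact (hχ a U s).trans (congrArg _ (Q.termMap_unitS c χ i U s)).symm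

variable [IsCofiltered I] [∀ k, IsIso (((EtCoh.pullPushAdj (c.π.app k)).homEquiv _ _).symm (χ k))]

include hχ in
/-- The limit sheaf of the system. -/
theorem exists_limIso : ∃ e : (limSheaf c).obj Q.toSys ≅ T,
    ∀ k, (coproj c k).app Q.toSys ≫ e.hom = Q.termMap c χ k := by
  haveI : IsConnected Iᵒᵖ := IsFiltered.isConnected Iᵒᵖ
  haveI : ∀ k, IsIso (Q.termMap c χ k) := fun k => IsIso.comp_isIso
  refine ⟨IsColimit.coconePointsIsoOfNatIso (colimit.isColimit _) (isColimitConstCocone Iᵒᵖ _)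
    (NatIso.ofComponents (fun j => asIso (Q.termMap c χ j.unop)) (fun {i k} f =>
      (Q.delta_termMap c χ hχ f.unop).trans (Category.comp_id _).symm)), fun k => ?_⟩
  exact (IsColimit.comp_coconePointsIsoOfNatIso_hom (colimit.isColimit _) _ _ (op k)).trans (Category.comp_id _)

end SysData

end Groth.Agent.H1Lim
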