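import Groth.Agent.H1Lim.Topology
import Groth.Agent.H18Et.Coh.Colimit
import Groth.Agent.H18Et.Stalk
import Mathlib.CategoryTheory.Limits.Preserves.FunctorCategory

/-!
# Compatible systems of étale sheaves and their limit sheaf
-/

set_option autoImplicit false
set_option backward.isDefEq.respectTransparency false
set_option backward.isDefEq.respectTransparency.types false

universe u

open CategoryTheory CategoryTheory.Limits AlgebraicGeometry Opposite

namespace Groth.Agent.H1Lim

open scoped Groth.Agent.H18Et Groth.Agent.H18Et.CohColim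

variable {I : Type u} [SmallCategory I] (D : I ⥤ Scheme.{u})

/-- Compatible systems of abelian étale sheaves on the members of a diagram. -/
abbrev Sys : Type (u + 2) := Sheaf (topology D) AddCommGrpCat.{u + 1}

/-- The sheaf of a system at an index. -/
noncomputable abbrev res (i : I) : Sys D ⥤ EtCoh.Ab (D.obj i) :=
  (incl i).sheafPushforwardContinuous AddCommGrpCat.{u + 1} (D.obj i).smallEtaleTopology (topology D)

variable {D} (c : Cone D)

omit [SmallCategory I] in
theorem map_eq_map {C : Type*} [Category C] (G : Cᵒᵖ ⥤ AddCommGrpCat.{u + 1}) {A B B' E : C}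
    (x : A ⟶ B) (y : B ⟶ E) (x' : A ⟶ B') (y' : B' ⟶ E) (h : x ≫ y = x' ≫ y') (t : G.obj (op E)) :
    G.map x.op (G.map y.op t) = G.map x'.op (G.map y'.op t) :=
  ((Functor.map_comp_apply G y.op x.op t).symm.trans (congrArg (fun z => G.map z t)
    (congrArg Quiver.Hom.op h))).trans (Functor.map_comp_apply G y'.op x'.op t)

/-- The inverse image of the `k`-th sheaf on the vertex. -/
noncomputable abbrev term (k : I) : Sys D ⥤ EtCoh.Ab c.pt := res D k ⋙ EtCoh.pull (c.π.app k)

/-- Inverse image of a section. -/
noncomputable def unitS (P : Sys D) (k : I) (W : (D.obj k).Etale) :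
    P.obj.obj (op ((incl k).obj W)) ⟶
      ((term c k).obj P).obj.obj (op ((toCone c).obj ((incl k).obj W))) :=
  ((EtCoh.pullPushAdj (c.π.app k)).unit.app ((res D k).obj P)).hom.app (op W)

theorem unitS_fib (P : Sys D) (k : I) {V W : (D.obj k).Etale} (g : V ⟶ W)
    (s : EtCoh.sect ((res D k).obj P) W) :
    ((term c k).obj P).obj.map ((toCone c).map ((incl k).map g)).op (unitS c P k W s) =
      unitS c P k V (P.obj.map ((incl k).map g).op s) := by
  rw [toCone_incl_map]
  exact (NatTrans.naturality_apply ((EtCoh.pullPushAdj (c.π.app k)).unit.app ((res D k).obj P)).hom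
    g.op s).symm

/-- The transition map, in adjoint form. -/
noncomputable def alpha (P : Sys D) {i k : I} (a : k ⟶ i) :
    (res D i).obj P ⟶ (EtCoh.push (c.π.app i)).obj ((term c k).obj P) :=
  ⟨{ app := fun U => P.obj.map (proj a U.unop).op ≫ unitS c P k ((EtCoh.bc (D.map a)).obj U.unop) ≫
      ((term c k).obj P).obj.map (projInv c a U.unop).op
     naturality := fun U V g => by
      ext s
      show ((term c k).obj P).obj.map (projInv c a V.unop).op (unitS c P k _
          (P.obj.map (proj a V.unop).op (P.obj.map ((incl i).map g.unop).op s))) =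
        ((term c k).obj P).obj.map ((EtCoh.bc (c.π.app i)).map g.unop).op
          (((term c k).obj P).obj.map (projInv c a U.unop).op (unitS c P k _
            (P.obj.map (proj a U.unop).op s)))
      refine (congrArg (fun z => ((term c k).obj P).obj.map (projInv c a V.unop).op
        (unitS c P k _ z)) (map_eq_map P.obj (proj a V.unop) ((incl i).map g.unop)
          ((incl k).map ((EtCoh.bc (D.map a)).map g.unop)) (proj a U.unop)
          (proj_naturality a g.unop).symm s)).trans ?_
      refine (congrArg (((term c k).obj P).obj.map (projInv c a V.unop).op)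
        (unitS_fib c P k ((EtCoh.bc (D.map a)).map g.unop) _).symm).trans ?_
      refine map_eq_map _ _ _ _ _ ?_ _
      exact projInv_naturality c a g.unop }⟩

/-- The transition map. -/
noncomputable def delta (P : Sys D) {i k : I} (a : k ⟶ i) : (term c i).obj P ⟶ (term c k).obj P :=
  ((EtCoh.pullPushAdj (c.π.app i)).homEquiv _ _).symm (alpha c P a)

theorem delta_unitS_alpha (P : Sys D) {i k : I} (a : k ⟶ i) (U : (D.obj i).Etale)
    (s : EtCoh.sect ((res D i).obj P) U) :
    (delta c P a).hom.app (op ((toCone c).obj ((incl i).obj U))) (unitS c P i U s) =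
      (alpha c P a).hom.app (op U) s := by
  have h := ((EtCoh.pullPushAdj (c.π.app i)).homEquiv _ _).apply_symm_apply (alpha c P a)
  rw [Adjunction.homEquiv_unit] at h
  exact congrArg (fun φ : (res D i).obj P ⟶ (EtCoh.push (c.π.app i)).obj ((term c k).obj P) =>
    φ.hom.app (op U) s) h

/-- The transition maps are compatible with restriction along any morphism. -/
theorem delta_unitS (P : Sys D) {i k : I} {W : (D.obj k).Etale} {U : (D.obj i).Etale}
    (h : (incl k).obj W ⟶ (incl i).obj U) (s : EtCoh.sect ((res D i).obj P) U) :
    ((term c k).obj P).obj.map ((toCone c).map h).op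
        ((delta c P h.base).hom.app (op ((toCone c).obj ((incl i).obj U))) (unitS c P i U s)) =
      unitS c P k W (P.obj.map h.op s) := by
  refine (congrArg (((term c k).obj P).obj.map ((toCone c).map h).op)
    (delta_unitS_alpha c P h.base U s)).trans ?_
  show ((term c k).obj P).obj.map ((toCone c).map h).op (((term c k).obj P).obj.map
    (projInv c h.base U).op (unitS c P k _ (P.obj.map (proj h.base U).op s))) = _
  have e : (toCone c).map h ≫ projInv c h.base U = (toCone c).map ((incl k).map (fibPart h)) :=
    toCone_projInv c h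
  refine (Functor.map_comp_apply ((term c k).obj P).obj _ _ _).symm.trans ?_
  refine (congrArg (fun z => ((term c k).obj P).obj.map (Quiver.Hom.op z) _) e).trans ?_
  refine (unitS_fib c P k (fibPart h) _).trans (congrArg (unitS c P k W) ?_)
  exact (Functor.map_comp_apply P.obj _ _ _).symm.trans
    (congrArg (fun z => P.obj.map (Quiver.Hom.op z) s) (fibPart_proj h))

/-- Morphisms out of an inverse image are determined on inverse images of sections. -/
theorem term_hom_ext {P : Sys D} {i : I} {G : EtCoh.Ab c.pt} {φ ψ : (term c i).obj P ⟶ G}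
    (h : ∀ (U : (D.obj i).Etale) (s : EtCoh.sect ((res D i).obj P) U),
      φ.hom.app (op ((toCone c).obj ((incl i).obj U))) (unitS c P i U s) =
        ψ.hom.app (op ((toCone c).obj ((incl i).obj U))) (unitS c P i U s)) : φ = ψ := by
  apply ((EtCoh.pullPushAdj (c.π.app i)).homEquiv _ _).injective
  rw [Adjunction.homEquiv_unit, Adjunction.homEquiv_unit]
  ext U s
  exact h U.unop s

theorem sect_map_injective (G : EtCoh.Ab c.pt) {A B : Tot D} (h : A ⟶ B) [IsIso ((toCone c).map h)] :
    Function.Injective (G.obj.map ((toCone c).map h).op) :=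
  (ConcreteCategory.bijective_of_isIso (G.obj.map ((toCone c).map h).op)).1

theorem delta_id (P : Sys D) (i : I) : delta c P (𝟙 i) = 𝟙 _ := by
  refine term_hom_ext c fun U s => ?_
  have := delta_unitS c P (𝟙 ((incl i).obj U)) s
  simp at this
  exact this

theorem delta_comp (P : Sys D) {i k l : I} (a : k ⟶ i) (b : l ⟶ k) :
    delta c P (b ≫ a) = delta c P a ≫ delta c P b := by
  refine term_hom_ext c fun U s => ?_
  let h₁ := proj b ((EtCoh.bc (D.map a)).obj U)
  let h₂ := proj a U
  haveI : IsIso ((toCone c).map (h₁ ≫ h₂)) := by rw [Functor.map_comp]; infer_instance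
  apply sect_map_injective c ((term c l).obj P) (h₁ ≫ h₂)
  refine (delta_unitS c P (h₁ ≫ h₂) s).trans ?_
  show _ = ((term c l).obj P).obj.map ((toCone c).map (h₁ ≫ h₂)).op
    ((delta c P b).hom.app _ ((delta c P a).hom.app _ (unitS c P i U s)))
  rw [Functor.map_comp, op_comp, Functor.map_comp_apply, op_comp, Functor.map_comp_apply]
  refine Eq.trans ?_ (congrArg _ (NatTrans.naturality_apply (delta c P b).hom ((toCone c).map h₂).op _))
  rw [show ((term c k).obj P).obj.map ((toCone c).map h₂).op
    ((delta c P a).hom.app _ (unitS c P i U s)) = _ from delta_unitS c P h₂ s]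
  exact (delta_unitS c P h₁ _).symm

theorem delta_naturality {P Q : Sys D} (φ : P ⟶ Q) {i k : I} (a : k ⟶ i) :
    (term c i).map φ ≫ delta c Q a = delta c P a ≫ (term c k).map φ := by
  have key : ∀ (j : I) (W : (D.obj j).Etale) (s : EtCoh.sect ((res D j).obj P) W),
      ((term c j).map φ).hom.app _ (unitS c P j W s) = unitS c Q j W (φ.hom.app _ s) := fun j W s =>
    (congrArg (fun ψ : (res D j).obj P ⟶ (EtCoh.push (c.π.app j)).obj ((term c j).obj Q) =>
      ψ.hom.app (op W) s) ((EtCoh.pullPushAdj (c.π.app j)).unit.naturality ((res D j).map φ))).symm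
  refine term_hom_ext c fun U s => ?_
  apply sect_map_injective c ((term c k).obj Q) (proj a U)
  show ((term c k).obj Q).obj.map _ ((delta c Q a).hom.app _ (((term c i).map φ).hom.app _ _)) =
    ((term c k).obj Q).obj.map _ (((term c k).map φ).hom.app _ ((delta c P a).hom.app _ _))
  rw [key]
  refine (delta_unitS c Q (proj a U) _).trans ?_
  refine Eq.trans ?_ (NatTrans.naturality_apply ((term c k).map φ).hom ((toCone c).map (proj a U)).op _)
  refine Eq.trans ?_ (congrArg _ (delta_unitS c P (proj a U) s).symm)
  refine Eq.trans ?_ (key k _ _).symm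
  exact congrArg _ (NatTrans.naturality_apply φ.hom (proj a U).op s).symm

/-- The diagram of inverse images on the vertex. -/
noncomputable def diag : Sys D ⥤ (Iᵒᵖ ⥤ EtCoh.Ab c.pt) where
  obj P :=
    { obj := fun i => (term c i.unop).obj P
      map := fun f => delta c P f.unop
      map_id := fun i => delta_id c P i.unop
      map_comp := fun f g => delta_comp c P f.unop g.unop }
  map φ :=
    { app := fun i => (term c i.unop).map φ
      naturality := fun _ _ f => (delta_naturality c φ f.unop).symm }
  map_id P := by ext i : 2; exact (term c i.unop).map_id P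
  map_comp φ ψ := by ext i : 2; exact (term c i.unop).map_comp φ ψ

instance res_preservesFiniteLimits (i : I) : PreservesFiniteLimits (res D i) :=
  haveI := ((incl (D := D) i).sheafAdjunctionContinuous AddCommGrpCat.{u + 1}
    (D.obj i).smallEtaleTopology (topology D)).rightAdjoint_preservesLimits
  inferInstance

instance res_preservesFiniteColimits (i : I) : PreservesFiniteColimits (res D i) :=
  haveI := ((incl (D := D) i).sheafAdjunctionCocontinuous AddCommGrpCat.{u + 1}
    (D.obj i).smallEtaleTopology (topology D)).leftAdjoint_preservesColimits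
  inferInstance

variable [IsCofiltered I]

/-- The limit sheaf of a system. -/
noncomputable def limSheaf : Sys D ⥤ EtCoh.Ab c.pt := diag c ⋙ colim

/-- The inverse image of a section in the limit sheaf. -/
noncomputable def toLim (P : Sys D) (k : I) (W : (D.obj k).Etale) :
    P.obj.obj (op ((incl k).obj W)) ⟶
      ((limSheaf c).obj P).obj.obj (op ((toCone c).obj ((incl k).obj W))) :=
  unitS c P k W ≫ (colimit.ι ((diag c).obj P) (op k)).hom.app _

theorem toLim_naturality (P : Sys D) {i k : I} {W : (D.obj k).Etale} {U : (D.obj i).Etale}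
    (h : (incl k).obj W ⟶ (incl i).obj U) (s : EtCoh.sect ((res D i).obj P) U) :
    ((limSheaf c).obj P).obj.map ((toCone c).map h).op (toLim c P i U s) =
      toLim c P k W (P.obj.map h.op s) := by
  have hw := congrArg (fun φ : ((diag c).obj P).obj (op i) ⟶ colimit ((diag c).obj P) =>
    φ.hom.app (op ((toCone c).obj ((incl i).obj U))) (unitS c P i U s))
    (colimit.w ((diag c).obj P) h.base.op)
  refine (congrArg (((limSheaf c).obj P).obj.map ((toCone c).map h).op) hw.symm).trans ?_
  refine (NatTrans.naturality_apply (colimit.ι ((diag c).obj P) (op k)).hom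
    ((toCone c).map h).op _).symm.trans ?_
  exact congrArg ((colimit.ι ((diag c).obj P) (op k)).hom.app _) (delta_unitS c P h s)

end Groth.Agent.H1Lim
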