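import Groth.Agent.H1Lim.Cat
import Mathlib.CategoryTheory.Sites.CoverLifting
import Mathlib.CategoryTheory.Sites.CoverPreserving
import Mathlib.Algebra.Category.Grp.FilteredColimits

/-!
# The fibrewise étale topology on the total category
-/

set_option autoImplicit false
set_option backward.isDefEq.respectTransparency false
set_option backward.isDefEq.respectTransparency.types false

universe u w

open CategoryTheory CategoryTheory.Limits AlgebraicGeometry Opposite

namespace Groth.Agent.H1Lim

variable {I : Type u} [SmallCategory I] (D : I ⥤ Scheme.{u})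

/-- The fibrewise étale topology. -/
def topology : GrothendieckTopology (Tot D) where
  sieves A := {S | Sieve.functorPullback (incl (D := D) A.idx) (X := A.U) S ∈
    (D.obj A.idx).smallEtaleTopology A.U}
  top_mem' A := by
    show Sieve.functorPullback (incl (D := D) A.idx) (X := A.U) ⊤ ∈ (D.obj A.idx).smallEtaleTopology A.U
    rw [Sieve.functorPullback_top]
    exact GrothendieckTopology.top_mem _ _
  pullback_stable' := by
    intro B A S h hS
    let g₀ : A.U ⟶ (EtCoh.bc (D.map h.base)).obj B.U := fibPart (W := A.U) (U := B.U) h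
    have hT := (D.obj A.idx).smallEtaleTopology.pullback_stable g₀
      ((EtCoh.coverPreserving_bc (D.map h.base)).cover_preserve hS)
    refine GrothendieckTopology.superset_covering _ ?_ hT
    intro V v hv
    obtain ⟨Z, g, q, hg, e⟩ := hv
    show S.arrows ((incl A.idx).map v ≫ h)
    have e2 : (incl A.idx).map v ≫ h =
        ((incl A.idx).map q ≫ proj h.base Z) ≫ (incl B.idx).map g := by
      calc (incl A.idx).map v ≫ h
          = (incl A.idx).map v ≫ ((incl A.idx).map g₀ ≫ proj h.base B.U) :=
            congrArg (_ ≫ ·) (fibPart_proj (W := A.U) (U := B.U) h).symm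
        _ = (incl A.idx).map (v ≫ g₀) ≫ proj h.base B.U := by
            rw [Functor.map_comp, Category.assoc]
        _ = (incl A.idx).map (q ≫ (EtCoh.bc (D.map h.base)).map g) ≫ proj h.base B.U := by rw [e]
        _ = _ := by rw [Functor.map_comp, Category.assoc, proj_naturality, Category.assoc]
    rw [e2]
    exact S.downward_closed hg _
  transitive' := by
    intro A S hS R hR
    refine GrothendieckTopology.transitive _ hS _ fun V g hg => ?_
    have := hR (f := (incl A.idx).map g) hg
    refine GrothendieckTopology.superset_covering _ ?_ this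
    intro W w hw
    show R.arrows ((incl A.idx).map (w ≫ g))
    rw [Functor.map_comp]
    exact hw

variable {D}

theorem mem_topology_incl {i : I} {U : (D.obj i).Etale} {S : Sieve ((incl i).obj U)} :
    S ∈ topology D ((incl i).obj U) ↔
      S.functorPullback (incl i) ∈ (D.obj i).smallEtaleTopology U := Iff.rfl

instance isCocontinuous_incl (i : I) :
    (incl (D := D) i).IsCocontinuous (D.obj i).smallEtaleTopology (topology D) :=
  ⟨fun hS => hS⟩

theorem coverPreserving_incl (i : I) :
    CoverPreserving (D.obj i).smallEtaleTopology (topology D) (incl (D := D) i) :=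
  ⟨fun {U} S hS => mem_topology_incl.2 (GrothendieckTopology.superset_covering _
    (Sieve.le_functorPushforward_pullback _ S) hS)⟩

theorem compatiblePreserving_incl (i : I) :
    CompatiblePreserving.{w} (topology D) (incl (D := D) i) := by
  constructor
  intro ℱ Z T x hx Y₁ Y₂ ⟨k, W⟩ f₁ f₂ g₁ g₂ hg₁ hg₂ e
  have hb : f₁.base = f₂.base := (Category.comp_id _).symm.trans
    (Eq.trans (congrArg (fun h => TotHom.base h) e) (Category.comp_id _))
  obtain ⟨a, t₁, w₁⟩ := f₁
  obtain ⟨a', t₂, w₂⟩ := f₂
  obtain rfl : a = a' := hb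
  let q₁ : W ⟶ (EtCoh.bc (D.map a)).obj Y₁ := fibPart (i := i) (k := k) (W := W) (U := Y₁) ⟨a, t₁, w₁⟩
  let q₂ : W ⟶ (EtCoh.bc (D.map a)).obj Y₂ := fibPart (i := i) (k := k) (W := W) (U := Y₂) ⟨a, t₂, w₂⟩
  have hq₁ : (incl k).map q₁ ≫ proj a Y₁ = ⟨a, t₁, w₁⟩ := fibPart_proj (i := i) (k := k) (W := W) (U := Y₁) ⟨a, t₁, w₁⟩
  have hq₂ : (incl k).map q₂ ≫ proj a Y₂ = ⟨a, t₂, w₂⟩ := fibPart_proj (i := i) (k := k) (W := W) (U := Y₂) ⟨a, t₂, w₂⟩
  have sq := (EtCoh.bc (D.map a)).map_isPullback (IsPullback.of_hasPullback g₁ g₂)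
  have hw : q₁ ≫ (EtCoh.bc (D.map a)).map g₁ = q₂ ≫ (EtCoh.bc (D.map a)).map g₂ := by
    have et : t₁ ≫ g₁.left = t₂ ≫ g₂.left := congrArg (fun h => TotHom.top h) e
    refine MorphismProperty.Over.Hom.ext (pullback.hom_ext ?_ ?_)
    · refine ((Category.assoc _ _ _).trans (congrArg (_ ≫ ·) (bc_map_fst _ g₁))).trans
        (Eq.trans ?_ ((Category.assoc _ _ _).trans (congrArg (_ ≫ ·) (bc_map_fst _ g₂))).symm)
      exact ((Category.assoc _ _ _).symm.trans (congrArg (· ≫ _) (pullback.lift_fst _ _ _))).trans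
        (et.trans ((Category.assoc _ _ _).symm.trans (congrArg (· ≫ _) (pullback.lift_fst _ _ _))).symm)
    · refine ((Category.assoc _ _ _).trans (congrArg (_ ≫ ·) (bc_map_snd _ g₁))).trans
        (Eq.trans ?_ ((Category.assoc _ _ _).trans (congrArg (_ ≫ ·) (bc_map_snd _ g₂))).symm)
      exact (pullback.lift_snd _ _ _).trans (pullback.lift_snd _ _ _).symm
  let m := sq.lift q₁ q₂ hw
  have key := hx (pullback.fst g₁ g₂) (pullback.snd g₁ g₂) hg₁ hg₂ pullback.condition
  let r : (incl k).obj W ⟶ (incl i).obj (pullback g₁ g₂) := (incl k).map m ≫ proj a _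
  have h₁ : r ≫ (incl i).map (pullback.fst g₁ g₂) = ⟨a, t₁, w₁⟩ := by
    refine ((Category.assoc _ _ _).trans (congrArg ((incl k).map m ≫ ·)
      (proj_naturality a (pullback.fst g₁ g₂)).symm)).trans ?_
    refine ((Category.assoc _ _ _).symm.trans (congrArg (· ≫ proj a _) (Functor.map_comp _ _ _).symm)).trans ?_
    exact (congrArg (fun z => (incl k).map z ≫ proj a _) (sq.lift_fst _ _ _)).trans hq₁
  have h₂ : r ≫ (incl i).map (pullback.snd g₁ g₂) = ⟨a, t₂, w₂⟩ := by
    refine ((Category.assoc _ _ _).trans (congrArg ((incl k).map m ≫ ·)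
      (proj_naturality a (pullback.snd g₁ g₂)).symm)).trans ?_
    refine ((Category.assoc _ _ _).symm.trans (congrArg (· ≫ proj a _) (Functor.map_comp _ _ _).symm)).trans ?_
    exact (congrArg (fun z => (incl k).map z ≫ proj a _) (sq.lift_snd _ _ _)).trans hq₂
  refine (congrArg (fun h => ℱ.obj.map (Quiver.Hom.op h) (x g₁ hg₁)) h₁.symm).trans ?_
  refine ((Functor.map_comp_apply ℱ.obj _ _ _).trans (congrArg (ℱ.obj.map r.op) key)).trans ?_
  exact (Functor.map_comp_apply ℱ.obj _ _ _).symm.trans
    (congrArg (fun h => ℱ.obj.map (Quiver.Hom.op h) (x g₂ hg₂)) h₂)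

instance isContinuous_incl (i : I) :
    (incl (D := D) i).IsContinuous (D.obj i).smallEtaleTopology (topology D) :=
  Functor.isContinuous_of_coverPreserving (compatiblePreserving_incl i) (coverPreserving_incl i)

/-- A presheaf which is a sheaf on every fibre is a sheaf. -/
theorem isSheaf_of_fibres (P : (Tot D)ᵒᵖ ⥤ Type w)
    (hP : ∀ i, Presieve.IsSheaf (D.obj i).smallEtaleTopology ((incl i).op ⋙ P)) :
    Presieve.IsSheaf (topology D) P := by
  rintro ⟨i, U⟩ (S : Sieve ((incl i).obj U)) hS x hx
  let y : Presieve.FamilyOfElements ((incl i).op ⋙ P) (S.functorPullback (incl i)).arrows :=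
    fun V v hv => x ((incl i).map v) hv
  have hy : y.Compatible := fun Y₁ Y₂ Z a b f₁ f₂ h₁ h₂ e =>
    hx ((incl i).map a) ((incl i).map b) h₁ h₂
      (by rw [← Functor.map_comp, ← Functor.map_comp, e])
  obtain ⟨t, ht, huniq⟩ := hP i _ hS y hy
  refine ⟨t, ?_, fun t' ht' => huniq t' fun V v hv => ht' _ hv⟩
  rintro ⟨k, W⟩ (h : (incl k).obj W ⟶ (incl i).obj U) hh
  have hR : (S.pullback h).functorPullback (incl k) ∈ (D.obj k).smallEtaleTopology W :=
    (topology D).pullback_stable h hS
  refine (hP k _ hR).isSeparatedFor.ext fun V v hv => ?_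
  show P.map ((incl k).map v).op (P.map h.op t) = P.map ((incl k).map v).op (x h hh)
  let hv0 : (incl k).obj V ⟶ (incl i).obj U := (incl k).map v ≫ h
  let g₀ := fibPart (W := V) (U := U) hv0
  obtain ⟨T, hT, hTle⟩ : ∃ T, T ∈ (D.obj i).smallEtaleTopology U ∧ T ≤ S.functorPullback (incl i) :=
    ⟨_, hS, le_rfl⟩
  have hcov := (D.obj k).smallEtaleTopology.pullback_stable g₀
    ((EtCoh.coverPreserving_bc (D.map hv0.base)).cover_preserve hT)
  refine (hP k _ hcov).isSeparatedFor.ext fun Q q hq => ?_
  obtain ⟨Z, g, q', hg, e⟩ := hq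
  have e2 : (incl k).map q ≫ (incl k).map v ≫ h =
      ((incl k).map q' ≫ proj hv0.base Z) ≫ (incl i).map g := by
    calc (incl k).map q ≫ (incl k).map v ≫ h
        = (incl k).map q ≫ ((incl k).map g₀ ≫ proj hv0.base U) :=
          congrArg (_ ≫ ·) (fibPart_proj (W := V) (U := U) hv0).symm
      _ = (incl k).map (q ≫ g₀) ≫ proj hv0.base U := by rw [Functor.map_comp, Category.assoc]
      _ = (incl k).map (q' ≫ (EtCoh.bc (D.map hv0.base)).map g) ≫ proj hv0.base U := by rw [e]
      _ = _ := ((congrArg (· ≫ proj hv0.base U) (Functor.map_comp _ _ _)).trans (Category.assoc _ _ _)).trans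
          ((congrArg ((incl k).map q' ≫ ·) (proj_naturality hv0.base g)).trans (Category.assoc _ _ _).symm)
  show P.map ((incl k).map q).op (P.map ((incl k).map v).op (P.map h.op t)) =
    P.map ((incl k).map q).op (P.map ((incl k).map v).op (x h hh))
  refine ((congrArg (P.map ((incl k).map q).op) (Functor.map_comp_apply P h.op ((incl k).map v).op t).symm).trans
    (Functor.map_comp_apply P (h.op ≫ ((incl k).map v).op) ((incl k).map q).op t).symm).trans ?_
  refine (congrArg (fun z => P.map z t) (congrArg Quiver.Hom.op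
    (a₁ := (incl k).map q ≫ (incl k).map v ≫ h) e2)).trans ?_
  refine (Functor.map_comp_apply P ((incl i).map g).op ((incl k).map q' ≫ proj hv0.base Z).op t).trans ?_
  refine (congrArg (P.map ((incl k).map q' ≫ proj hv0.base Z).op) (ht g (hTle _ hg))).trans ?_
  refine (hx ((incl k).map q' ≫ proj hv0.base Z) ((incl k).map q ≫ (incl k).map v) (hTle _ hg) hh
    (e2.symm.trans (Category.assoc _ _ _).symm)).trans ?_
  exact Functor.map_comp_apply P ((incl k).map v).op ((incl k).map q).op (x h hh)

end Groth.Agent.H1Lim
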